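import Groth.Agent.Lib.DMod.PCModule

/-!
Cohomology of pseudo-coherent objects.
-/

set_option autoImplicit false

universe u

open CategoryTheory CategoryTheory.Limits CategoryTheory.Pretriangulated CategoryTheory.Triangulated

attribute [local instance] HasDerivedCategory.standard

namespace Groth.Agent.DMod

variable {A : Type u} [CommRing A]

/-- The top cohomology of a `(b-1)`-pseudo-coherent object `≤ b` is finitely presented. -/
theorem finitePresentation_top {b : ℤ} {K : Dual.D A} [K.IsLE b]
    (h : DRing.IsPseudoCoherent A (b - 1) K) : Module.FinitePresentation A (Dual.HD A K b) := by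
  obtain ⟨K', f, g, t, hT, hK', -, -⟩ := exists_top_triangle K b
  have h₁ : DRing.IsPseudoCoherent A (b - 1 + 1) K' := pc_of_isLE (n := b - 1) (by omega)
  have h₃ : DRing.IsPseudoCoherent A (b - 1) ((single b).obj ((HH b).obj K)) :=
    pc_triangle₃ _ hT h₁ h
  have := (pc_single_iff (b - 1) b _).1 h₃
  rw [show b - 1 - b = (-1 : ℤ) by omega] at this
  exact (pcModule_negOne_iff (Dual.HD A K b)).1 this

theorem coherent_of_noetherian [IsNoetherianRing A] (I : Ideal A) (hI : I.FG) :
    Module.FinitePresentation A I :=
  have : Module.Finite A I := Module.Finite.iff_fg.2 hI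
  Module.finitePresentation_of_finite A I

/-- Over a coherent ring: cohomology of an `m`-pseudo-coherent object. -/
theorem homology_of_pc (hA : ∀ I : Ideal A, I.FG → Module.FinitePresentation A I) {m : ℤ}
    {K : Dual.D A} (h : DRing.IsPseudoCoherent A m K) :
    Module.Finite A (Dual.HD A K m) ∧
      ∀ i, m < i → Module.FinitePresentation A (Dual.HD A K i) := by
  obtain ⟨b, hb⟩ := pc_bddAbove h
  suffices H : ∀ (k : ℕ) (b : ℤ) (K : Dual.D A), b ≤ m + k → K.IsLE b →
      DRing.IsPseudoCoherent A m K → Module.Finite A (Dual.HD A K m) ∧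
      ∀ i, m < i → Module.FinitePresentation A (Dual.HD A K i) from
    H (b - m).toNat b K (by omega) hb h
  intro k
  induction k with
  | zero =>
    intro b K hbm hb h
    have : K.IsLE m := (tS A).isLE_of_le K b m (by simpa using hbm)
    refine ⟨finite_top h, fun i hi => ?_⟩
    have := (isLE_iff K m).1 inferInstance i hi
    have := Module.Free.of_subsingleton A (Dual.HD A K i)
    exact Module.finitePresentation_of_projective A _
  | succ k ih =>
    intro b K hbm hb h
    by_cases hb' : b ≤ m + k
    · exact ih b K hb' hb h
    obtain ⟨K', f, g, t, hT, hK', hf, -⟩ := exists_top_triangle K b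
    have hfp := finitePresentation_top (b := b) (pc_mono (by omega) h)
    have h₃ : DRing.IsPseudoCoherent A (m - 1) ((single b).obj ((HH b).obj K)) :=
      have : Module.FinitePresentation A ((HH b).obj K) := hfp
      (pc_single_iff _ b _).2 (pcModule_of_coherent hA _ _)
    have h₁ : DRing.IsPseudoCoherent A m K' := by
      have := pc_triangle₁ (m := m - 1) _ hT (pc_mono (by omega) h) h₃
      rwa [show m - 1 + 1 = m by omega] at this
    obtain ⟨h2, h3⟩ := ih (b - 1) K' (by omega) hK' h₁
    refine ⟨?_, fun i hi => ?_⟩
    · have := hf m (by omega)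
      have := h2
      exact Module.Finite.equiv (asIso ((HH m).map f)).toLinearEquiv
    · rcases lt_trichotomy i b with hib | rfl | hib
      · have := hf i hib
        have := h3 i hi
        exact Module.FinitePresentation.of_equiv (R := A) (M := Dual.HD A K' i)
          (N := Dual.HD A K i) (asIso ((HH i).map f)).toLinearEquiv
      · exact hfp
      · have := (isLE_iff K b).1 hb i hib
        have := Module.Free.of_subsingleton A (Dual.HD A K i)
        exact Module.finitePresentation_of_projective A _

theorem pc_of_homology' (hA : ∀ I : Ideal A, I.FG → Module.FinitePresentation A I) {m : ℤ}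
    {K : Dual.D A} {b : ℤ} [K.IsLE b] (h1 : Module.Finite A (Dual.HD A K m))
    (h2 : ∀ i, m < i → Module.FinitePresentation A (Dual.HD A K i)) :
    DRing.IsPseudoCoherent A m K := by
  refine pc_of_homology (b := b) fun i hi => ?_
  rcases eq_or_lt_of_le hi with rfl | hi
  · rw [sub_self]; exact (pcModule_zero_iff _).2 h1
  · have := h2 i hi
    exact pcModule_of_coherent hA _ _

/-- A bounded above object with finite cohomology over a Noetherian ring has a finite free
resolution. -/
theorem exists_finite_free_resolution [IsNoetherianRing A] {K : Dual.D A} [K.IsLE 0]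
    (h : ∀ i, Module.Finite A (Dual.HD A K i)) :
    ∃ E : DRing.Cx A, DRing.VanishesAbove E 0 ∧ DRing.TermwiseFiniteFree E ∧
      Nonempty (DRing.toD E ≅ K) := by
  obtain ⟨L, hL, ⟨e⟩⟩ := K.exists_iso_Q_obj_of_isLE 0
  have hpc : ∀ m, DRing.IsPseudoCoherent A m K := fun m =>
    pc_of_homology (b := 0) fun i _ => have := h i; pcModule_of_noetherian _ _
  obtain ⟨E, hE, hF, ⟨e'⟩⟩ := exists_resolution_aux L fun m => pc_of_iso e (hpc m)
  exact ⟨E, hE, hF, ⟨e' ≪≫ e.symm⟩⟩

end Groth.Agent.DMod
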