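import Groth.Agent.Lib.DMod.Basic

/-!
The canonical truncation of a complex of modules from above, with elementwise terms.
-/

set_option autoImplicit false

universe u

open CategoryTheory CategoryTheory.Limits CategoryTheory.Pretriangulated CategoryTheory.Triangulated

attribute [local instance] HasDerivedCategory.standard

namespace Groth.Agent.DMod

variable {A : Type u} [CommRing A]

/-- The subcomplex `⋯ → K^{n-1} → ker d → 0`. -/
noncomputable def leSub (K : DRing.Cx A) (n i : ℤ) : Submodule A (K.X i) :=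
  if i < n then ⊤ else if i = n then LinearMap.ker (K.d i (i + 1)).hom else ⊥

theorem leSub_of_lt (K : DRing.Cx A) {n i : ℤ} (h : i < n) : leSub K n i = ⊤ := if_pos h

theorem leSub_self (K : DRing.Cx A) (n : ℤ) : leSub K n n = LinearMap.ker (K.d n (n + 1)).hom :=
  (if_neg (lt_irrefl n)).trans (if_pos rfl)

theorem leSub_of_gt (K : DRing.Cx A) {n i : ℤ} (h : n < i) : leSub K n i = ⊥ :=
  (if_neg (by omega)).trans (if_neg (by omega))

theorem leSub_stable (K : DRing.Cx A) (n i : ℤ) (x : K.X i) (hx : x ∈ leSub K n i) :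
    K.d i (i + 1) x ∈ leSub K n (i + 1) := by
  rcases lt_trichotomy i n with h | h | h
  · rcases eq_or_lt_of_le (show i + 1 ≤ n by omega) with h' | h'
    · subst h'
      rw [leSub_self]
      exact congrArg (fun f : K.X i ⟶ K.X (i + 1 + 1) => f x) (K.d_comp_d i (i + 1) (i + 1 + 1))
    · rw [leSub_of_lt K h']; trivial
  · subst h
    rw [leSub_self] at hx
    have h0 : K.d i (i + 1) x = 0 := hx
    rw [h0]; exact zero_mem _
  · rw [leSub_of_gt K h, Submodule.mem_bot] at hx
    rw [hx, map_zero]; exact zero_mem _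

/-- The truncated complex. -/
noncomputable def truncTo (K : DRing.Cx A) (n : ℤ) : DRing.Cx A :=
  subCx K (leSub K n) (leSub_stable K n)

/-- The inclusion. -/
noncomputable def truncToι (K : DRing.Cx A) (n : ℤ) : truncTo K n ⟶ K :=
  subι K (leSub K n) (leSub_stable K n)

theorem truncToι_injective (K : DRing.Cx A) (n i : ℤ) :
    Function.Injective ((truncToι K n).f i) :=
  Submodule.injective_subtype (leSub K n i)

theorem truncToι_mem (K : DRing.Cx A) (n i : ℤ) (x : (truncTo K n).X i) :
    (truncToι K n).f i x ∈ leSub K n i :=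
  Subtype.prop (show ↥(leSub K n i) from x)

theorem truncTo_exists (K : DRing.Cx A) (n i : ℤ) {x : K.X i} (hx : x ∈ leSub K n i) :
    ∃ y, (truncToι K n).f i y = x :=
  ⟨(⟨x, hx⟩ : ↥(leSub K n i)), rfl⟩

/-- Below `n` the terms are unchanged. -/
noncomputable def truncToXEquiv (K : DRing.Cx A) {n i : ℤ} (h : i < n) :
    (truncTo K n).X i ≃ₗ[A] K.X i :=
  LinearEquiv.ofTop (leSub K n i) (leSub_of_lt K h)

/-- The top term. -/
noncomputable def truncToTopEquiv (K : DRing.Cx A) (n : ℤ) :
    (truncTo K n).X n ≃ₗ[A] ↥(LinearMap.ker (K.d n (n + 1)).hom) :=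
  LinearEquiv.ofEq _ _ (leSub_self K n)

theorem isZero_truncTo_X (K : DRing.Cx A) {n i : ℤ} (h : n < i) :
    IsZero ((truncTo K n).X i) := by
  refine (isZero_iff_subsingleton _).2 ⟨fun a b => truncToι_injective K n i ?_⟩
  have ha := truncToι_mem K n i a
  have hb := truncToι_mem K n i b
  rw [leSub_of_gt K h, Submodule.mem_bot] at ha hb
  rw [ha, hb]

theorem vanishesOutside_truncTo (K : DRing.Cx A) (n a : ℤ) [K.IsStrictlyGE a] :
    DRing.VanishesOutside (truncTo K n) a n := by
  intro i hi
  rcases hi with hi | hi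
  · have := ModuleCat.subsingleton_of_isZero (K.isZero_of_isStrictlyGE a i hi)
    exact (isZero_iff_subsingleton _).2 (truncToι_injective K n i).subsingleton
  · exact isZero_truncTo_X K hi

theorem isIso_Q_map_truncToι (K : DRing.Cx A) (n : ℤ) [(DRing.toD K).IsLE n] :
    IsIso (DerivedCategory.Q.map (truncToι K n)) := by
  rw [DerivedCategory.isIso_Q_map_iff_quasiIso, quasiIso_iff]
  intro j
  rw [quasiIsoAt_iff_isIso_homologyMap, ConcreteCategory.isIso_iff_bijective]
  refine homologyMap_bijective_of (truncToι K n) (i := j - 1) (k := j + 1) (by simp) (by simp)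
    (fun x hx => ?_) (fun w y _ hy => ?_)
  · by_cases hj : n < j
    · obtain ⟨y, rfl⟩ := (subsingleton_homology_iff K (i := j - 1) (k := j + 1) (by simp) (by simp)).1
        ((subsingleton_HD_toD_iff K j).1 ((isLE_iff _ n).1 inferInstance j hj)) x hx
      exact ⟨0, y, map_zero _, by rw [map_zero, zero_add]⟩
    · have hmem : x ∈ leSub K n j := by
        rcases eq_or_lt_of_le (show j ≤ n by omega) with hj' | hj'
        · subst hj'; rw [leSub_self]; exact hx
        · rw [leSub_of_lt K hj']; trivial
      obtain ⟨w, rfl⟩ := truncTo_exists K n j hmem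
      refine ⟨w, 0, truncToι_injective K n (j + 1) ?_, by rw [map_zero, add_zero]⟩
      rw [map_zero, ← ModuleCat.comp_apply ((truncTo K n).d j (j + 1)), ← (truncToι K n).comm,
        ModuleCat.comp_apply]
      exact hx
  · by_cases hj : n < j
    · have := ModuleCat.subsingleton_of_isZero (isZero_truncTo_X K hj)
      exact ⟨0, Subsingleton.elim _ _⟩
    · obtain ⟨v, rfl⟩ := truncTo_exists K n (j - 1) (x := y)
        (by rw [leSub_of_lt K (show j - 1 < n by omega)]; trivial)
      refine ⟨v, truncToι_injective K n j ?_⟩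
      rw [← hy, ← ModuleCat.comp_apply ((truncTo K n).d (j - 1) j), ← (truncToι K n).comm,
        ModuleCat.comp_apply]

theorem exists_truncTo_iso (K : DRing.Cx A) (n : ℤ) [(DRing.toD K).IsLE n] :
    Nonempty (DRing.toD (truncTo K n) ≅ DRing.toD K) :=
  have := isIso_Q_map_truncToι K n
  ⟨asIso (DerivedCategory.Q.map (truncToι K n))⟩

end Groth.Agent.DMod
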