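import Groth.Agent.Lib.DMod.ResClass
import Groth.Agent.Lib.DMod.TruncLE
import Groth.Agent.Lib.DMod.PCHomology
import Mathlib.Algebra.Homology.Single
import Mathlib.RingTheory.Flat.EquationalCriterion

/-!
Projective and flat amplitude; perfect complexes.
-/

set_option autoImplicit false

universe u

open CategoryTheory CategoryTheory.Limits CategoryTheory.Pretriangulated CategoryTheory.Triangulated

attribute [local instance] HasDerivedCategory.standard

namespace Groth.Agent.DMod

variable {A : Type u} [CommRing A]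

/-- `M[i]` as a single object. -/
noncomputable def singleShiftIso' (i : ℤ) (M : ModuleCat.{u} A) :
    ((single 0).obj M)⟦i⟧ ≅ (single (-i)).obj M :=
  ((DerivedCategory.singleFunctors (ModuleCat.{u} A)).shiftIso i (-i) 0 (add_neg_cancel i)).app M

theorem isZero_single_X {n i : ℤ} (h : i ≠ n) (M : ModuleCat.{u} A) :
    IsZero (((HomologicalComplex.single (ModuleCat.{u} A) (ComplexShape.up ℤ) n).obj M).X i) :=
  HomologicalComplex.isZero_single_obj_X (ComplexShape.up ℤ) n M i h

/-- `H^n` is detected by maps to modules placed in degree `n`. -/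
theorem exists_hom_single (K : Dual.D A) (n : ℤ) :
    ∃ (M : ModuleCat.{u} A) (f : K ⟶ (single n).obj M), Function.Injective ((HH n).map f) := by
  let C := DerivedCategory.Q.objPreimage K
  let e : DRing.toD C ≅ K := DerivedCategory.Q.objObjPreimageIso K
  let N : Submodule A (C.X n) := LinearMap.range (C.d (n - 1) n).hom
  let φ : C ⟶ (HomologicalComplex.single (ModuleCat.{u} A) (ComplexShape.up ℤ) n).obj
      (ModuleCat.of A (C.X n ⧸ N)) :=
    HomologicalComplex.mkHomToSingle (ModuleCat.ofHom N.mkQ) (fun j hj => by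
      obtain rfl : j = n - 1 := by
        have : j + 1 = n := hj
        omega
      ext x
      exact (Submodule.Quotient.mk_eq_zero N).2 ⟨x, rfl⟩)
  have hφ : Function.Injective (HomologicalComplex.homologyMap φ n) := by
    refine homologyMap_injective φ (i := n - 1) (k := n + 1) (by simp) (by simp) fun w y _ hy => ?_
    have := ModuleCat.subsingleton_of_isZero (isZero_single_X (n := n) (i := n - 1) (by omega)
      (ModuleCat.of A (C.X n ⧸ N)))
    rw [Subsingleton.elim y 0, map_zero, HomologicalComplex.mkHomToSingle_f] at hy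
    have h0 : N.mkQ w = 0 := by
      apply ((ModuleCat.mono_iff_injective (HomologicalComplex.singleObjXSelf
        (ComplexShape.up ℤ) n (ModuleCat.of A (C.X n ⧸ N))).inv).1 inferInstance)
      rw [map_zero]
      exact hy.symm
    exact (Submodule.Quotient.mk_eq_zero N).1 h0
  have hmono : Mono ((HH n).map (DerivedCategory.Q.map φ)) := by
    have : Mono ((HomologicalComplex.homologyFunctor (ModuleCat.{u} A) (ComplexShape.up ℤ) n).map φ) :=
      (ModuleCat.mono_iff_injective _).2 hφ
    exact ((MorphismProperty.monomorphisms _).arrow_mk_iso_iff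
      (((Functor.mapArrowFunctor _ _).mapIso
        (DerivedCategory.homologyFunctorFactors (ModuleCat.{u} A) n)).app (Arrow.mk φ))).2 this
  let e' := ((DerivedCategory.singleFunctorIsoCompQ (ModuleCat.{u} A) n).app
    (ModuleCat.of A (C.X n ⧸ N))).symm
  refine ⟨_, e.inv ≫ DerivedCategory.Q.map φ ≫ e'.hom, (ModuleCat.mono_iff_injective _).1 ?_⟩
  rw [Functor.map_comp, Functor.map_comp]
  have h1 : Mono ((HH n).map e.inv) := inferInstance
  have h2 : Mono ((HH n).map e'.hom) := inferInstance
  exact mono_comp' h1 (mono_comp' hmono h2)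

theorem subsingleton_HD_of_hom {K : Dual.D A} {n : ℤ}
    (h : ∀ M : ModuleCat.{u} A, Subsingleton (K ⟶ (single n).obj M)) :
    Subsingleton (Dual.HD A K n) := by
  obtain ⟨M, f, hf⟩ := exists_hom_single K n
  refine ⟨fun x y => hf ?_⟩
  rw [(h M).elim f 0, Functor.map_zero]
  rfl

theorem subsingleton_hom_single {P : DRing.Cx A} [P.IsKProjective] {n : ℤ} (h : IsZero (P.X n))
    (M : ModuleCat.{u} A) : Subsingleton (DRing.toD P ⟶ (single n).obj M) := by
  let e := (DerivedCategory.singleFunctorIsoCompQ (ModuleCat.{u} A) n).app M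
  refine ⟨fun f g => ?_⟩
  rw [← sub_eq_zero, ← cancel_mono e.hom, zero_comp]
  obtain ⟨φ, hφ⟩ := exists_map_eq (P := P)
    (L := (CochainComplex.singleFunctor (ModuleCat.{u} A) n).obj M) ((f - g) ≫ e.hom)
  have h0 : φ = 0 := by
    ext1 i
    by_cases hi : i = n
    · subst hi; exact h.eq_of_src _ _
    · exact (isZero_single_X hi M).eq_of_tgt _ _
  rw [← hφ, h0, Functor.map_zero]

/-- Maps out of `P^n` killing boundaries factor through the differential. -/
theorem factor_of_hom_zero {P : DRing.Cx A} [P.IsKProjective] {n : ℤ}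
    (h : ∀ M : ModuleCat.{u} A, Subsingleton (DRing.toD P ⟶ (single n).obj M)) {N : Type u}
    [AddCommGroup N] [Module A N] (f : P.X n →ₗ[A] N) (hf : f ∘ₗ (P.d (n - 1) n).hom = 0) :
    ∃ g : P.X (n + 1) →ₗ[A] N, g ∘ₗ (P.d n (n + 1)).hom = f := by
  let S := (HomologicalComplex.single (ModuleCat.{u} A) (ComplexShape.up ℤ) n).obj (ModuleCat.of A N)
  let φ : P ⟶ S := HomologicalComplex.mkHomToSingle (ModuleCat.ofHom f) (fun j hj => by
      obtain rfl : j = n - 1 := by
        have : j + 1 = n := hj
        omega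
      ext x
      exact LinearMap.congr_fun hf x)
  let e := (DerivedCategory.singleFunctorIsoCompQ (ModuleCat.{u} A) n).app (ModuleCat.of A N)
  have h0 : DerivedCategory.Q.map φ = 0 := by
    have := (h (ModuleCat.of A N)).elim (DerivedCategory.Q.map φ ≫ e.inv) 0
    exact (cancel_mono e.inv).1 (this.trans zero_comp.symm)
  obtain ⟨H⟩ := (map_eq_zero_iff φ).1 h0
  have hc := H.comm n
  rw [HomologicalComplex.mkHomToSingle_f, dNext_eq H.hom (show (ComplexShape.up ℤ).Rel n (n + 1) from rfl),
    prevD_eq H.hom (show (ComplexShape.up ℤ).Rel (n - 1) n from sub_add_cancel n 1),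
    HomologicalComplex.single_obj_d, comp_zero, add_zero, HomologicalComplex.zero_f, add_zero] at hc
  refine ⟨(H.hom (n + 1) n ≫ (HomologicalComplex.singleObjXSelf (ComplexShape.up ℤ) n
    (ModuleCat.of A N)).hom).hom, ?_⟩
  have hc' := congrArg (fun k => k ≫ (HomologicalComplex.singleObjXSelf (ComplexShape.up ℤ) n
    (ModuleCat.of A N)).hom) hc
  simp only [Category.assoc, Iso.inv_hom_id, Category.comp_id] at hc'
  exact (congrArg ModuleCat.Hom.hom hc').symm

/-- The term of the truncation in the bottom degree. -/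
noncomputable def truncFromBotEquiv (K : DRing.Cx A) (n : ℤ) :
    (K.X n ⧸ LinearMap.range (K.d (n - 1) n).hom) ≃ₗ[A] (truncFrom K n).X n :=
  Submodule.quotEquivOfEq _ _ (ltSub_self K n).symm

theorem truncFrom_mem {p : ∀ (M : Type u) [AddCommGroup M] [Module A M], Prop} (hp : ModClass p)
    (K : DRing.Cx A) (n : ℤ) (hK : ∀ i, n < i → p (K.X i)) (hn : p ((truncFrom K n).X n)) (i : ℤ) :
    p ((truncFrom K n).X i) := by
  rcases lt_trichotomy i n with hi | hi | hi
  · have := ModuleCat.subsingleton_of_isZero (isZero_truncFrom_X K hi)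
    exact hp.subsingleton _
  · exact hi ▸ hn
  · exact hp.equiv (truncFromXEquiv K hi) (hK i hi)

/-- Projective amplitude from the vanishing of Ext. -/
theorem exists_projAmp {K : Dual.D A} (a b : ℤ) [K.IsLE b]
    (h1 : ∀ i, i < a - 1 → Subsingleton (Dual.HD A K i))
    (h2 : ∀ M : ModuleCat.{u} A, Subsingleton (K ⟶ (single (a - 1)).obj M)) :
    ∃ P : DRing.Cx A, DRing.VanishesOutside P a b ∧ (∀ i, Module.Projective A (P.X i)) ∧
      Nonempty (DRing.toD P ≅ K) := by
  have : K.IsGE a := (isGE_iff K a).2 fun i hi => by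
    rcases eq_or_lt_of_le (show i ≤ a - 1 by omega) with h | h
    · exact h ▸ subsingleton_HD_of_hom h2
    · exact h1 i h
  obtain ⟨P, hP, hPf, ⟨e⟩⟩ := exists_free_resolution K b
  have hproj : ∀ i, Module.Projective A (P.X i) := fun i => have := hPf i; inferInstance
  have := isKProjective b hproj
  have : (DRing.toD P).IsGE a := (tS A).isGE_of_iso e.symm a
  obtain ⟨e'⟩ := exists_truncFrom_iso P a
  refine ⟨_, vanishesOutside_truncFrom P a b,
    truncFrom_mem modClass_projective P a (fun i _ => hproj i) ?_, ⟨e' ≪≫ e⟩⟩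
  suffices Module.Projective A (P.X a ⧸ LinearMap.range (P.d (a - 1) a).hom) from
    Module.Projective.of_equiv (truncFromBotEquiv P a)
  -- the image of `d` is a direct summand
  obtain ⟨c, rfl⟩ : ∃ c, c + 1 = a := ⟨a - 1, by omega⟩
  simp only [add_sub_cancel_right] at h2
  let B := LinearMap.range (P.d c (c + 1)).hom
  suffices Module.Projective A (P.X (c + 1) ⧸ B) by
    have hB : ∀ j, j = c → LinearMap.range (P.d j (c + 1)).hom = B := by
      intro j hj
      subst hj
      rfl
    rw [hB _ (add_sub_cancel_right c 1)]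
    exact this
  have hh : ∀ M : ModuleCat.{u} A, Subsingleton (DRing.toD P ⟶ (single c).obj M) := fun M =>
    have := h2 M
    ⟨fun f g => (cancel_epi e.inv).1 (Subsingleton.elim _ _)⟩
  obtain ⟨g, hg⟩ := factor_of_hom_zero hh (P.d c (c + 1)).hom.rangeRestrict (LinearMap.ext fun x =>
    Subtype.ext (congrArg (fun f : P.X (c - 1) ⟶ P.X (c + 1) => f x) (P.d_comp_d (c - 1) c (c + 1))))
  have hgB : ∀ x : ↥B, g x = x := by
    rintro ⟨_, y, rfl⟩
    exact LinearMap.congr_fun hg y
  have := hproj (c + 1)
  refine Module.Projective.of_split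
    (B.liftQ (LinearMap.id - B.subtype ∘ₗ g) fun x hx => ?_) B.mkQ (LinearMap.ext fun q => ?_)
  · change x - (g x : P.X (c + 1)) = 0
    rw [hgB ⟨x, hx⟩, sub_self]
  · obtain ⟨x, rfl⟩ := B.mkQ_surjective q
    change B.mkQ (x - (g x : P.X (c + 1))) = B.mkQ x
    rw [map_sub, sub_eq_self]
    exact (Submodule.Quotient.mk_eq_zero B).2 (g x).2

/-- The bottom cokernel of a complex of projectives representing an object of amplitude `≥ a`. -/
theorem truncFrom_bot_mem {p : ∀ (M : Type u) [AddCommGroup M] [Module A M], Prop} (hp : ResClass p)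
    {P E : DRing.Cx A} [P.IsKProjective] (a b : ℤ) [P.IsStrictlyLE b] [E.IsStrictlyLE b]
    [E.IsStrictlyGE a] (e : DRing.toD P ≅ DRing.toD E) (hP : ∀ i, a < i → p (P.X i))
    (hE : ∀ i, p (E.X i)) : p ((truncFrom P a).X a) := by
  obtain ⟨f, hf⟩ := exists_map_eq e.hom
  obtain ⟨g, hg⟩ := exists_truncFrom_desc P f a
  have : (DRing.toD E).IsGE a := inferInstanceAs ((DerivedCategory.Q.obj E).IsGE a)
  have : (DRing.toD P).IsGE a := (tS A).isGE_of_iso e.symm a
  have := isIso_Q_map_truncFromπ P a
  have : IsIso (DerivedCategory.Q.map g) := by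
    have : IsIso (DerivedCategory.Q.map (truncFromπ P a) ≫ DerivedCategory.Q.map g) := by
      rw [← Functor.map_comp, hg, hf]; infer_instance
    exact IsIso.of_isIso_comp_left (DerivedCategory.Q.map (truncFromπ P a)) _
  have hV := (vanishesOutside_iff _ a b).1 (vanishesOutside_truncFrom P a b)
  have := hV.1
  have := hV.2
  exact bottom_source_mem hp g a b (fun i hi => hp.equiv (truncFromXEquiv P hi) (hP i hi)) hE

/-- `(a-1)`-pseudo-coherent of flat amplitude `[a,b]` is finite projective amplitude `[a,b]`. -/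
theorem exists_finProjAmp {K : Dual.D A} {a b : ℤ} (hpc : DRing.IsPseudoCoherent A (a - 1) K)
    (hamp : DRing.HasTorAmplitudeIn A a b K) :
    ∃ P : DRing.Cx A, DRing.VanishesOutside P a b ∧ DRing.TermwiseFiniteProjective P ∧
      Nonempty (DRing.toD P ≅ K) := by
  obtain ⟨F, b', C, α, γ, t, hF, hFF, hT, hC⟩ := (pc_iff _ _).1 hpc
  obtain ⟨E, hE, hEflat, ⟨e⟩⟩ := hamp
  have hFproj : ∀ i, Module.Projective A (F.X i) := fun i => have := (hFF i).2; inferInstance
  have := ((vanishesOutside_iff F _ b').1 hF).2
  have := isKProjective b' hFproj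
  have hE' := (vanishesOutside_iff E a b).1 hE
  have := hE'.1
  have := hE'.2
  obtain ⟨f, hf⟩ := exists_map_eq (α ≫ e.inv)
  obtain ⟨g, hg⟩ := exists_truncFrom_desc F f a
  have hα := ((cone_isLE_iff _ hT (a - 1)).1 hC).1
  have : IsIso (DerivedCategory.Q.map g) := by
    rw [DerivedCategory.isIso_Q_map_iff_quasiIso, quasiIso_iff]
    intro j
    rw [quasiIsoAt_iff_isIso_homologyMap, ConcreteCategory.isIso_iff_bijective]
    by_cases hj : j < a
    · have h1 := subsingleton_truncFrom_homology F hj
      have h2 : Subsingleton (E.homology j) :=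
        (subsingleton_HD_toD_iff E j).1 ((isGE_iff _ a).1
          (inferInstanceAs ((DerivedCategory.Q.obj E).IsGE a)) j hj)
      exact ⟨fun _ _ _ => Subsingleton.elim _ _, fun y => ⟨0, Subsingleton.elim _ _⟩⟩
    · have h1 : Function.Bijective (HomologicalComplex.homologyMap f j) := by
        rw [← HH_bijective_iff, hf, ← ConcreteCategory.isIso_iff_bijective, Functor.map_comp]
        have := hα j (by omega)
        exact IsIso.comp_isIso' this inferInstance
      rw [← hg, HomologicalComplex.homologyMap_comp] at h1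
      replace h1 : Function.Bijective (HomologicalComplex.homologyMap g j ∘
        HomologicalComplex.homologyMap (truncFromπ F a) j) := h1
      exact (Function.Bijective.of_comp_iff _ (truncFromπ_bijective F (show a ≤ j by omega))).1 h1
  let B := max b b'
  have : F.IsStrictlyLE B := F.isStrictlyLE_of_le b' B (le_max_right _ _)
  have : E.IsStrictlyLE B := E.isStrictlyLE_of_le b B (le_max_left _ _)
  let T := truncFrom F a
  have hV := (vanishesOutside_iff T a B).1 (vanishesOutside_truncFrom F a B)
  have := hV.1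
  have := hV.2
  have hflat : Module.Flat A (T.X a) := bottom_source_mem resClass_flat g a B
    (fun i hi => have := hFproj i; modClass_flat.equiv (truncFromXEquiv F hi) inferInstance) hEflat
  have hfin : Module.Finite A (T.X a) ∧ Module.Projective A (T.X a) := by
    have := (hFF a).1
    have := (hFF a).2
    have := (hFF (a - 1)).1
    have : Module.FinitePresentation A (F.X a) := Module.finitePresentation_of_projective A (F.X a)
    have : Module.FinitePresentation A (F.X a ⧸ LinearMap.range (F.d (a - 1) a).hom) :=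
      Module.finitePresentation_of_surjective (Submodule.mkQ _) (Submodule.mkQ_surjective _)
        (by rw [Submodule.ker_mkQ]; exact Module.Finite.iff_fg.1 (Module.Finite.range _))
    have : Module.FinitePresentation A (T.X a) :=
      Module.FinitePresentation.of_equiv (R := A) (M := F.X a ⧸ LinearMap.range (F.d (a - 1) a).hom)
        (N := T.X a) (truncFromBotEquiv F a)
    exact ⟨inferInstance, Module.Flat.projective_of_finitePresentation⟩
  have hTp : DRing.TermwiseFiniteProjective T :=
    truncFrom_mem modClass_finiteProjective F a (fun i _ => ⟨(hFF i).1, hFproj i⟩) hfin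
  let eT : DRing.toD T ≅ K := asIso (DerivedCategory.Q.map g) ≪≫ e
  have : (DRing.toD E).IsLE b := inferInstanceAs ((DerivedCategory.Q.obj E).IsLE b)
  have : K.IsLE b := (tS A).isLE_of_iso e b
  have : (DRing.toD T).IsLE b := (tS A).isLE_of_iso eT.symm b
  obtain ⟨e'⟩ := exists_truncTo_iso T b
  refine ⟨truncTo T b, vanishesOutside_truncTo T b a, fun i => ?_, ⟨e' ≪≫ eT⟩⟩
  rcases lt_trichotomy i b with hi | rfl | hi
  · exact modClass_finiteProjective.equiv (truncToXEquiv T hi).symm (hTp i)
  · exact modClass_finiteProjective.equiv (truncToTopEquiv T i).symm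
      (cycles_mem resClass_finiteProjective i B (fun j _ => hTp j)
        (fun j hj => (subsingleton_HD_toD_iff T j).1 ((isLE_iff _ i).1 inferInstance j hj)) i le_rfl)
  · have := ModuleCat.subsingleton_of_isZero (isZero_truncTo_X T hi)
    exact modClass_finiteProjective.subsingleton _

theorem pcModule_finiteProjective (m : ℤ) (M : Type u) [AddCommGroup M] [Module A M]
    [Module.Finite A M] [Module.Projective A M] : DRing.IsPseudoCoherentModule A m M := by
  suffices h : ∀ (k : ℕ) (M : Type u) [AddCommGroup M] [Module A M] [Module.Finite A M]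
      [Module.Projective A M] (m : ℤ), -(k : ℤ) ≤ m → DRing.IsPseudoCoherentModule A m M from
    h (-m).toNat M m (by omega)
  intro k
  induction k with
  | zero => exact fun M _ _ hM _ m hm => pc_mono hm ((pcModule_zero_iff M).2 hM)
  | succ k ih =>
    intro M _ _ _ _ m hm
    obtain ⟨n, p, hp⟩ := exists_free_surj (A := A) M
    obtain ⟨h1, h2⟩ := resClass_finiteProjective.left _ p (Submodule.injective_subtype _)
      (LinearMap.exact_subtype_ker_map p) hp ⟨inferInstance, inferInstance⟩ ⟨inferInstance, inferInstance⟩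
    exact pcModule_quotient p hp (ih _ (m + 1) (by omega)) (pcModule_finiteFree _ _)

theorem pc'_of_finProj {E : DRing.Cx A} {a b : ℤ} (hE : DRing.VanishesOutside E a b)
    (hF : DRing.TermwiseFiniteProjective E) : DRing.IsPseudoCoherent' A (DRing.toD E) :=
  (pc'_iff _).2 fun m => pc_of_terms (b := b) (fun i hi => hE i (Or.inr hi)) fun i _ =>
    have := (hF i).1; have := (hF i).2; pcModule_finiteProjective _ _

theorem pc'_of_iso {K L : Dual.D A} (e : K ≅ L) (h : DRing.IsPseudoCoherent' A K) :
    DRing.IsPseudoCoherent' A L := by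
  obtain ⟨E, b, hb, hF, ⟨e'⟩⟩ := h
  exact ⟨E, b, hb, hF, ⟨e' ≪≫ e⟩⟩

theorem pc'_of_perfect {K : Dual.D A} (h : DRing.IsPerfect A K) : DRing.IsPseudoCoherent' A K := by
  obtain ⟨E, a, b, hE, hF, ⟨e⟩⟩ := h
  exact pc'_of_iso e (pc'_of_finProj hE hF)

end Groth.Agent.DMod
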