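import Groth.Agent.Lib.DMod.Resolve
import Groth.Agent.Lib.DerTrunc.Basic
import Mathlib.Algebra.Homology.DerivedCategory.SingleTriangle
import Mathlib.Algebra.Module.FinitePresentation
import Mathlib.RingTheory.Noetherian.Basic

/-!
Pseudo-coherent modules; dévissage by cohomology and by terms.
-/

set_option autoImplicit false

universe u

open CategoryTheory CategoryTheory.Limits CategoryTheory.Pretriangulated CategoryTheory.Triangulated

attribute [local instance] HasDerivedCategory.standard

namespace Groth.Agent.DMod

variable {A : Type u} [CommRing A]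

/-- Objects concentrated in a single degree. -/
noncomputable abbrev single (n : ℤ) : ModuleCat.{u} A ⥤ Dual.D A :=
  DerivedCategory.singleFunctor (ModuleCat.{u} A) n

/-- `single n` as a shift of `single 0`. -/
noncomputable def singleShiftIso (n : ℤ) (M : ModuleCat.{u} A) :
    ((single 0).obj M)⟦-n⟧ ≅ (single n).obj M :=
  ((DerivedCategory.singleFunctors (ModuleCat.{u} A)).shiftIso (-n) n 0 (neg_add_cancel n)).app M

theorem pc_single_iff (m n : ℤ) (M : ModuleCat.{u} A) :
    DRing.IsPseudoCoherent A m ((single n).obj M) ↔ DRing.IsPseudoCoherentModule A (m - n) M :=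
  ⟨fun h => (pc_shift_iff (m' := m) (n := -n) (m := m - n) (by omega) _).1
      (pc_of_iso (singleShiftIso n M).symm h),
    fun h => pc_of_iso (singleShiftIso n M) (pc_shift (by omega) h)⟩

theorem pcModule_equiv {m : ℤ} {M N : Type u} [AddCommGroup M] [Module A M] [AddCommGroup N]
    [Module A N] (e : M ≃ₗ[A] N) (h : DRing.IsPseudoCoherentModule A m M) :
    DRing.IsPseudoCoherentModule A m N :=
  pc_of_iso ((single 0).mapIso e.toModuleIso) h

theorem isLE_single (n : ℤ) (M : ModuleCat.{u} A) : ((single n).obj M).IsLE n := inferInstance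

theorem pcModule_of_pos {m : ℤ} (hm : 0 < m) (M : Type u) [AddCommGroup M] [Module A M] :
    DRing.IsPseudoCoherentModule A m M :=
  have := isLE_single 0 (ModuleCat.of A M)
  pc_of_isLE (n := 0) hm

theorem pcModule_finiteFree (m : ℤ) (M : Type u) [AddCommGroup M] [Module A M] [Module.Finite A M]
    [Module.Free A M] : DRing.IsPseudoCoherentModule A m M := by
  let E : DRing.Cx A := (CochainComplex.singleFunctor (ModuleCat.{u} A) 0).obj (ModuleCat.of A M)
  have hE : DRing.VanishesOutside E 0 0 := (vanishesOutside_iff E 0 0).2 ⟨inferInstance, inferInstance⟩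
  refine pc_of_iso ((DerivedCategory.singleFunctorIsoCompQ (ModuleCat.{u} A) 0).app
    (ModuleCat.of A M)).symm (pc_toD hE (fun i => ?_) m)
  by_cases hi : i = 0
  · subst hi
    exact modClass_finiteFree.equiv
      (HomologicalComplex.singleObjXSelf (ComplexShape.up ℤ) 0 (ModuleCat.of A M)).toLinearEquiv.symm
      ⟨inferInstanceAs (Module.Finite A M), inferInstanceAs (Module.Free A M)⟩
  · have : Subsingleton (E.X i) := ModuleCat.subsingleton_of_isZero (hE i (by omega))
    exact @ModClass.subsingleton _ _ _ modClass_finiteFree _ _ _ this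

theorem finite_of_pcModule {M : Type u} [AddCommGroup M] [Module A M]
    (h : DRing.IsPseudoCoherentModule A 0 M) : Module.Finite A M := by
  have := isLE_single 0 (ModuleCat.of A M)
  have : Module.Finite A ((DerivedCategory.singleFunctor (ModuleCat.{u} A) 0 ⋙
    DerivedCategory.homologyFunctor (ModuleCat.{u} A) 0).obj (ModuleCat.of A M)) := finite_top h
  exact Module.Finite.equiv ((DerivedCategory.singleFunctorCompHomologyFunctorIso
    (ModuleCat.{u} A) 0).app (ModuleCat.of A M)).toLinearEquiv

/-- The triangle of a surjection of modules. -/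
theorem exists_surj_triangle {F M : Type u} [AddCommGroup F] [Module A F] [AddCommGroup M]
    [Module A M] (p : F →ₗ[A] M) (hp : Function.Surjective p) :
    ∃ h, Triangle.mk ((single 0).map (ModuleCat.ofHom (LinearMap.ker p).subtype))
      ((single 0).map (ModuleCat.ofHom p)) h ∈ distTriang (Dual.D A) := by
  have hS := LinearMap.shortExact_shortComplexKer hp
  exact ⟨_, hS.singleTriangle_distinguished⟩

theorem pcModule_quotient {m : ℤ} {F M : Type u} [AddCommGroup F] [Module A F] [AddCommGroup M]
    [Module A M] (p : F →ₗ[A] M) (hp : Function.Surjective p)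
    (hk : DRing.IsPseudoCoherentModule A (m + 1) (LinearMap.ker p))
    (hF : DRing.IsPseudoCoherentModule A m F) : DRing.IsPseudoCoherentModule A m M := by
  obtain ⟨h, hT⟩ := exists_surj_triangle p hp
  exact pc_triangle₃ _ hT hk hF

theorem pcModule_ker {m : ℤ} {F M : Type u} [AddCommGroup F] [Module A F] [AddCommGroup M]
    [Module A M] (p : F →ₗ[A] M) (hp : Function.Surjective p)
    (hF : DRing.IsPseudoCoherentModule A (m + 1) F)
    (hM : DRing.IsPseudoCoherentModule A m M) :
    DRing.IsPseudoCoherentModule A (m + 1) (LinearMap.ker p) := by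
  obtain ⟨h, hT⟩ := exists_surj_triangle p hp
  exact pc_triangle₁ _ hT hF hM

theorem exists_free_surj (M : Type u) [AddCommGroup M] [Module A M] [Module.Finite A M] :
    ∃ (n : ℕ) (p : ((Fin n → A)) →ₗ[A] M), Function.Surjective p :=
  Module.Finite.exists_fin' A M

theorem pcModule_zero_iff (M : Type u) [AddCommGroup M] [Module A M] :
    DRing.IsPseudoCoherentModule A 0 M ↔ Module.Finite A M := by
  refine ⟨finite_of_pcModule, fun h => ?_⟩
  obtain ⟨n, p, hp⟩ := exists_free_surj (A := A) M
  exact pcModule_quotient p hp (pcModule_of_pos one_pos _) (pcModule_finiteFree 0 _)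

theorem pcModule_negOne_iff (M : Type u) [AddCommGroup M] [Module A M] :
    DRing.IsPseudoCoherentModule A (-1) M ↔ Module.FinitePresentation A M := by
  constructor
  · intro h
    have := (pcModule_zero_iff M).1 (pc_mono (by omega) h)
    obtain ⟨n, p, hp⟩ := exists_free_surj (A := A) M
    have := (pcModule_zero_iff (LinearMap.ker p)).1
      (pcModule_ker (m := -1) p hp (pcModule_finiteFree _ _) h)
    exact Module.finitePresentation_of_surjective p hp (Module.Finite.iff_fg.1 this)
  · intro h
    obtain ⟨n, p, hp⟩ := exists_free_surj (A := A) M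
    have : Module.Finite A (LinearMap.ker p) :=
      Module.Finite.iff_fg.2 (Module.FinitePresentation.fg_ker p hp)
    exact pcModule_quotient (m := -1) p hp ((pcModule_zero_iff _).2 this) (pcModule_finiteFree _ _)

theorem pcModule'_iff (M : Type u) [AddCommGroup M] [Module A M] :
    DRing.IsPseudoCoherentModule' A M ↔ ∀ m, DRing.IsPseudoCoherentModule A m M :=
  pc'_iff _

theorem pcModule_of_noetherian [IsNoetherianRing A] (M : Type u) [AddCommGroup M] [Module A M]
    [Module.Finite A M] (m : ℤ) : DRing.IsPseudoCoherentModule A m M := by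
  suffices h : ∀ (k : ℕ) (M : Type u) [AddCommGroup M] [Module A M] [Module.Finite A M] (m : ℤ),
      -(k : ℤ) ≤ m → DRing.IsPseudoCoherentModule A m M from h (-m).toNat M m (by omega)
  intro k
  induction k with
  | zero => exact fun M _ _ hM m hm => pc_mono hm ((pcModule_zero_iff M).2 hM)
  | succ k ih =>
    intro M _ _ _ m hm
    obtain ⟨n, p, hp⟩ := exists_free_surj (A := A) M
    exact pcModule_quotient p hp (ih _ (m + 1) (by omega)) (pcModule_finiteFree _ _)

/-- Over a coherent ring finitely generated submodules of finite free modules are finitely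
presented. -/
theorem finitePresentation_of_fg_submodule
    (hA : ∀ I : Ideal A, I.FG → Module.FinitePresentation A I) :
    ∀ (n : ℕ) (N : Submodule A (Fin n → A)), N.FG → Module.FinitePresentation A N := by
  intro n
  induction n with
  | zero =>
    intro N _
    have : Module.Free A ↥N := Module.Free.of_subsingleton A _
    exact Module.finitePresentation_of_projective A ↥N
  | succ n ih =>
    intro N hN
    have : Module.Finite A ↥N := Module.Finite.iff_fg.2 hN
    let q : ↥N →ₗ[A] A := (LinearMap.proj 0).comp N.subtype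
    have hI : (LinearMap.range q).FG := Module.Finite.iff_fg.1 (Module.Finite.range q)
    have := hA _ hI
    let r : ↥(LinearMap.ker q) →ₗ[A] (Fin n → A) :=
      (LinearMap.funLeft A A Fin.succ).comp (N.subtype.comp (LinearMap.ker q).subtype)
    have hr : Function.Injective r := by
      rw [injective_iff_map_eq_zero]
      intro x hx
      apply Subtype.ext
      apply Subtype.ext
      funext j
      refine Fin.cases ?_ (fun j => congrFun hx j) j
      exact x.2
    have hker : (LinearMap.ker q).FG := by
      rw [← LinearMap.ker_rangeRestrict]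
      exact Module.FinitePresentation.fg_ker _ q.surjective_rangeRestrict
    have : Module.Finite A ↥(LinearMap.ker q) := Module.Finite.iff_fg.2 hker
    have := ih _ (Module.Finite.iff_fg.1 (Module.Finite.range r))
    have : Module.FinitePresentation A ↥(LinearMap.ker q) :=
      Module.FinitePresentation.of_equiv (R := A) (M := ↥(LinearMap.range r))
        (N := ↥(LinearMap.ker q))
        (LinearEquiv.ofInjective r hr).symm
    have : Module.FinitePresentation A ↥(LinearMap.ker q.rangeRestrict) := by
      rw [LinearMap.ker_rangeRestrict]; infer_instance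
    exact Module.finitePresentation_of_ker _ q.surjective_rangeRestrict

theorem finitePresentation_of_fg_submodule'
    (hA : ∀ I : Ideal A, I.FG → Module.FinitePresentation A I) {F : Type u} [AddCommGroup F]
    [Module A F] [Module.Finite A F] [Module.Projective A F] (N : Submodule A F) (hN : N.FG) :
    Module.FinitePresentation A N := by
  obtain ⟨n, p, hp⟩ := exists_free_surj (A := A) F
  obtain ⟨s, hs⟩ := Module.projective_lifting_property p LinearMap.id hp
  have hs' : Function.Injective s := fun x y h => by
    have := congrArg p h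
    rwa [← LinearMap.comp_apply, ← LinearMap.comp_apply, hs] at this
  have := finitePresentation_of_fg_submodule hA n _ (hN.map s)
  exact Module.FinitePresentation.of_equiv (Submodule.equivMapOfInjective s hs' N).symm

theorem pcModule_of_coherent (hA : ∀ I : Ideal A, I.FG → Module.FinitePresentation A I)
    (M : Type u) [AddCommGroup M] [Module A M] [Module.FinitePresentation A M] (m : ℤ) :
    DRing.IsPseudoCoherentModule A m M := by
  suffices h : ∀ (k : ℕ) (M : Type u) [AddCommGroup M] [Module A M]
      [Module.FinitePresentation A M] (m : ℤ),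
      -(k : ℤ) ≤ m → DRing.IsPseudoCoherentModule A m M from h (-m).toNat M m (by omega)
  intro k
  induction k with
  | zero => exact fun M _ _ _ m hm => pc_mono hm ((pcModule_zero_iff M).2 inferInstance)
  | succ k ih =>
    intro M _ _ _ m hm
    obtain ⟨n, p, hp⟩ := exists_free_surj (A := A) M
    have := finitePresentation_of_fg_submodule' hA _ (Module.FinitePresentation.fg_ker p hp)
    exact pcModule_quotient p hp (ih _ (m + 1) (by omega)) (pcModule_finiteFree _ _)

/-! ### Dévissage -/

/-- The top cohomology triangle. -/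
theorem exists_top_triangle (K : Dual.D A) (b : ℤ) [K.IsLE b] :
    ∃ (K' : Dual.D A) (f : K' ⟶ K) (g : K ⟶ (single b).obj ((HH b).obj K))
      (h : (single b).obj ((HH b).obj K) ⟶ K'⟦(1 : ℤ)⟧),
      Triangle.mk f g h ∈ distTriang _ ∧ K'.IsLE (b - 1) ∧
        (∀ i, i < b → IsIso ((HH i).map f)) ∧ IsIso ((HH b).map g) := by
  let K₃ := ((tS A).truncGE b).obj K
  have h₃ : K₃.IsGE b := inferInstanceAs ((tS A).IsGE _ b)
  have h₃' : K₃.IsLE b := inferInstanceAs ((tS A).IsLE _ b)
  obtain ⟨Y, ⟨e⟩⟩ := DerivedCategory.exists_iso_singleFunctor_obj_of_isGE_of_isLE K₃ b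
  have := DerTrunc.isIso_homology_truncGEπ K b b le_rfl
  let eY : Y ≅ (HH b).obj K :=
    ((DerivedCategory.singleFunctorCompHomologyFunctorIso (ModuleCat.{u} A) b).app Y).symm ≪≫
      ((HH b).mapIso e).symm ≪≫ (asIso ((HH b).map (((tS A).truncGEπ b).app K))).symm
  let E : K₃ ≅ (single b).obj ((HH b).obj K) := e ≪≫ (single b).mapIso eY
  refine ⟨((tS A).truncLT b).obj K, ((tS A).truncLTι b).app K,
    ((tS A).truncGEπ b).app K ≫ E.hom, E.inv ≫ ((tS A).truncGEδLT b).app K,
    isomorphic_distinguished _ ((tS A).triangleLTGE_distinguished b K) _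
      (Triangle.isoMk _ _ (Iso.refl _) (Iso.refl _) E.symm
        ((Category.comp_id _).trans (Category.id_comp _).symm) ?_ ?_),
    (tS A).isLE_truncLT_obj K b (b - 1) (by omega),
    fun i hi => DerTrunc.isIso_homology_truncLTι K b i hi, ?_⟩
  · change (((tS A).truncGEπ b).app K ≫ E.hom) ≫ E.inv = 𝟙 K ≫ ((tS A).truncGEπ b).app K
    rw [Category.assoc, E.hom_inv_id, Category.comp_id, Category.id_comp]
  · change (E.inv ≫ ((tS A).truncGEδLT b).app K) ≫ (shiftFunctor (Dual.D A) (1 : ℤ)).map (𝟙 _) =
      E.inv ≫ ((tS A).truncGEδLT b).app K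
    rw [CategoryTheory.Functor.map_id]
    exact Category.comp_id _
  · rw [Functor.map_comp]; infer_instance

theorem pc_of_homology {m : ℤ} {K : Dual.D A} {b : ℤ} [K.IsLE b]
    (h : ∀ i, m ≤ i → DRing.IsPseudoCoherentModule A (m - i) (Dual.HD A K i)) :
    DRing.IsPseudoCoherent A m K := by
  suffices H : ∀ (k : ℕ) (b : ℤ) (K : Dual.D A), K.IsLE b → b < m + k →
      (∀ i, m ≤ i → DRing.IsPseudoCoherentModule A (m - i) (Dual.HD A K i)) →
      DRing.IsPseudoCoherent A m K from H (b + 1 - m).toNat b K inferInstance (by omega) h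
  intro k
  induction k with
  | zero => exact fun b K hK hb _ => have := hK; pc_of_isLE (n := b) (by simpa using hb)
  | succ k ih =>
    intro b K hK hb h
    obtain ⟨K', f, g, t, hT, hK', hf, -⟩ := exists_top_triangle K b
    refine pc_triangle₂ _ hT (ih (b - 1) K' hK' (by omega) fun i hi => ?_) ?_
    · by_cases hib : i < b
      · have := hf i hib
        exact pcModule_equiv (asIso ((HH i).map f)).toLinearEquiv.symm (h i hi)
      · have : Subsingleton (Dual.HD A K' i) := (isLE_iff K' (b - 1)).1 hK' i (by omega)
        have := Module.Free.of_subsingleton A (Dual.HD A K' i)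
        exact pcModule_finiteFree _ _
    · change DRing.IsPseudoCoherent A m ((single b).obj ((HH b).obj K))
      by_cases hmb : m ≤ b
      · exact (pc_single_iff m b _).2 (h b hmb)
      · exact (pc_single_iff m b _).2 (pcModule_of_pos (by omega) _)

/-- A complex concentrated in degree `n` is the single object. -/
theorem exists_iso_single_X {K : DRing.Cx A} {n : ℤ} (h : DRing.VanishesOutside K n n) :
    Nonempty (DRing.toD K ≅ (single n).obj (K.X n)) := by
  have := ((vanishesOutside_iff K n n).1 h).1
  have := ((vanishesOutside_iff K n n).1 h).2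
  obtain ⟨M, ⟨e⟩⟩ := CochainComplex.exists_iso_single K n
  let eM : K.X n ≅ M := (HomologicalComplex.eval _ _ n).mapIso e ≪≫
    HomologicalComplex.singleObjXSelf (ComplexShape.up ℤ) n M
  exact ⟨DerivedCategory.Q.mapIso e ≪≫
    ((DerivedCategory.singleFunctorIsoCompQ (ModuleCat.{u} A) n).app M).symm ≪≫
    (single n).mapIso eM.symm⟩

/-- Induction on bounded complexes by brutal truncation. -/
theorem bounded_induction {Q : DRing.Cx A → Prop} {p : ∀ n : ℤ, ModuleCat.{u} A → Prop}
    (zero : ∀ K : DRing.Cx A, (∀ i, IsZero (K.X i)) → Q K)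
    (single : ∀ (K : DRing.Cx A) (n : ℤ), DRing.VanishesOutside K n n → p n (K.X n) → Q K)
    (step : ∀ (K : DRing.Cx A) (n : ℤ), Q (sigmaGE K n) → Q (sigmaLT K n) → Q K)
    (hp : ∀ (n : ℤ) (M N : ModuleCat.{u} A), (M ≅ N) → p n M → p n N)
    (K : DRing.Cx A) (a b : ℤ) (hK : DRing.VanishesOutside K a b)
    (h : ∀ i, a ≤ i → i ≤ b → p i (K.X i)) : Q K := by
  suffices H : ∀ (k : ℕ) (K : DRing.Cx A) (a b : ℤ), b < a + k → DRing.VanishesOutside K a b →
      (∀ i, a ≤ i → i ≤ b → p i (K.X i)) → Q K from H (b + 1 - a).toNat K a b (by omega) hK h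
  intro k
  induction k with
  | zero =>
    intro K a b hab hK _
    exact zero K fun i => hK i (by omega)
  | succ k ih =>
    intro K a b hab hK h
    by_cases hab' : b < a + k
    · exact ih K a b hab' hK h
    refine step K b ?_ ?_
    · rcases eq_or_ne k 0 with hk | hk
      · have hσ := vanishesOutside_sigmaGE hK b
        refine single _ b (fun i hi => hσ i (by omega)) ?_
        exact hp b _ _ (sigmaGEXEquiv K b b le_rfl).toModuleIso.symm (h b (by omega) le_rfl)
      · refine ih _ b b (by omega) (fun i hi => vanishesOutside_sigmaGE hK b i (by omega))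
          fun i hi hi' => ?_
        obtain rfl : i = b := by omega
        exact hp i _ _ (sigmaGEXEquiv K i i le_rfl).toModuleIso.symm (h i (by omega) le_rfl)
    · refine ih _ a (b - 1) (by omega) (fun i hi => vanishesOutside_sigmaLT hK b i (by omega))
        fun i hi hi' => ?_
      exact hp i _ _ (sigmaLTXEquiv K b i (by omega)).toModuleIso.symm (h i hi (by omega))

theorem pc_of_terms {m : ℤ} {K : DRing.Cx A} {b : ℤ} (hb : DRing.VanishesAbove K b)
    (h : ∀ i, m ≤ i → DRing.IsPseudoCoherentModule A (m - i) (K.X i)) :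
    DRing.IsPseudoCoherent A m (DRing.toD K) := by
  have hb' : DRing.VanishesOutside (sigmaGE K m) m b := by
    intro i hi
    rcases hi with hi | hi
    · exact (sigmaGE K m).isZero_of_isStrictlyGE m i hi
    · by_cases hm : m ≤ i
      · have := ModuleCat.subsingleton_of_isZero (hb i hi)
        exact (isZero_iff_subsingleton _).2 (sigmaGEXEquiv K m i hm).toEquiv.subsingleton
      · exact (sigmaGE K m).isZero_of_isStrictlyGE m i (by omega)
  have hσ : DRing.IsPseudoCoherent A m (DRing.toD (sigmaGE K m)) := by
    refine bounded_induction (Q := fun L => DRing.IsPseudoCoherent A m (DRing.toD L))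
      (p := fun n M => DRing.IsPseudoCoherentModule A (m - n) M) (fun L hL => ?_) (fun L n hL hn => ?_)
      (fun L n h₁ h₂ => ?_) (fun n M N e hM => pcModule_equiv e.toLinearEquiv hM) _ m b hb'
      (fun i hi _ => pcModule_equiv (sigmaGEXEquiv K m i hi).symm (h i hi))
    · have hv : DRing.VanishesOutside L (m - 1) (m - 1) := fun i _ => hL i
      have := isLE_toD hv
      exact pc_of_isLE (n := m - 1) (by omega)
    · obtain ⟨e⟩ := exists_iso_single_X hL
      exact pc_of_iso e.symm ((pc_single_iff m n _).2 hn)
    · obtain ⟨t, hT⟩ := exists_sub_triangle L (geSub L n) (geSub_stable L n)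
      exact pc_triangle₂ _ hT h₁ h₂
  obtain ⟨t, hT⟩ := exists_sub_triangle K (geSub K m) (geSub_stable K m)
  refine pc_triangle₂ _ hT hσ ?_
  have := isStrictlyLE_sigmaLT K m (m - 1) (by omega)
  have : (DRing.toD (sigmaLT K m)).IsLE (m - 1) :=
    inferInstanceAs ((DerivedCategory.Q.obj (sigmaLT K m)).IsLE (m - 1))
  exact pc_of_isLE (K := DRing.toD (sigmaLT K m)) (n := m - 1) (by omega)

end Groth.Agent.DMod
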