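import Mathlib.Algebra.Homology.ShortComplex.ModuleCat
import Mathlib.Algebra.Homology.ShortComplex.HomologicalComplex
import Mathlib.Algebra.Homology.QuasiIso
import Mathlib.Algebra.Category.ModuleCat.Abelian
import Mathlib.Algebra.Category.ModuleCat.EpiMono

/-!
Elementwise description of homology of complexes of modules.
-/

set_option autoImplicit false

universe v u w

open CategoryTheory CategoryTheory.Limits

namespace Groth.Agent.DMod

variable {R : Type u} [Ring R] {ι : Type w} {c : ComplexShape ι}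
  {K L : HomologicalComplex (ModuleCat.{v} R) c}

theorem iCycles_injective (K : HomologicalComplex (ModuleCat.{v} R) c) (j : ι) :
    Function.Injective (K.iCycles j) :=
  (ModuleCat.mono_iff_injective _).1 inferInstance

theorem homologyπ_surjective (K : HomologicalComplex (ModuleCat.{v} R) c) (j : ι) :
    Function.Surjective (K.homologyπ j) :=
  (ModuleCat.epi_iff_surjective _).1 inferInstance

theorem d_iCycles (j k : ι) (z : K.cycles j) : K.d j k (K.iCycles j z) = 0 := by
  rw [← ModuleCat.comp_apply, K.iCycles_d]; rfl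

theorem exists_cycle {j k : ι} (hk : c.next j = k) (x : K.X j) (hx : K.d j k x = 0) :
    ∃ z : K.cycles j, K.iCycles j z = x := by
  subst hk
  refine ⟨(K.sc j).moduleCatCyclesIso.inv ⟨x, hx⟩, ?_⟩
  change ((K.sc j).moduleCatCyclesIso.inv ≫ (K.sc j).iCycles) _ = x
  rw [ShortComplex.moduleCatCyclesIso_inv_iCycles]
  rfl

theorem homologyπ_eq_zero_iff {i j : ι} (hi : c.prev j = i) (z : K.cycles j) :
    K.homologyπ j z = 0 ↔ ∃ y : K.X i, K.d i j y = K.iCycles j z := by
  have hex : (ShortComplex.mk (K.toCycles i j) (K.homologyπ j)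
      (K.toCycles_comp_homologyπ i j)).Exact :=
    ShortComplex.exact_of_g_is_cokernel _ (K.homologyIsCokernel i j hi)
  have := (ShortComplex.ShortExact.moduleCat_exact_iff_function_exact _).1 hex
  rw [this z]
  refine exists_congr fun y => ?_
  have h : K.iCycles j (K.toCycles i j y) = K.d i j y := by
    rw [← ModuleCat.comp_apply, HomologicalComplex.toCycles_i]
  exact ⟨fun e => h ▸ congrArg (K.iCycles j) e, fun e => iCycles_injective K j (h.trans e)⟩

theorem iCycles_cyclesMap (f : K ⟶ L) (j : ι) (z : K.cycles j) :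
    L.iCycles j (HomologicalComplex.cyclesMap f j z) = f.f j (K.iCycles j z) := by
  rw [← ModuleCat.comp_apply, HomologicalComplex.cyclesMap_i]; rfl

theorem homologyMap_π (f : K ⟶ L) (j : ι) (z : K.cycles j) :
    HomologicalComplex.homologyMap f j (K.homologyπ j z) =
      L.homologyπ j (HomologicalComplex.cyclesMap f j z) := by
  rw [← ModuleCat.comp_apply, HomologicalComplex.homologyπ_naturality]; rfl

theorem homologyMap_surjective (f : K ⟶ L) {i j k : ι} (hi : c.prev j = i) (hk : c.next j = k)
    (h : ∀ x : L.X j, L.d j k x = 0 → ∃ (w : K.X j) (y : L.X i), K.d j k w = 0 ∧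
      f.f j w + L.d i j y = x) :
    Function.Surjective (HomologicalComplex.homologyMap f j) := by
  intro η
  obtain ⟨z, rfl⟩ := homologyπ_surjective L j η
  obtain ⟨w, y, hw, e⟩ := h _ (d_iCycles j k z)
  obtain ⟨z', rfl⟩ := exists_cycle hk w hw
  refine ⟨K.homologyπ j z', ?_⟩
  rw [homologyMap_π, ← sub_eq_zero, ← map_sub, homologyπ_eq_zero_iff hi]
  refine ⟨-y, ?_⟩
  rw [map_neg, map_sub, iCycles_cyclesMap, ← e]
  abel

theorem homologyMap_injective (f : K ⟶ L) {i j k : ι} (hi : c.prev j = i) (hk : c.next j = k)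
    (h : ∀ (w : K.X j) (y : L.X i), K.d j k w = 0 → L.d i j y = f.f j w → ∃ v, K.d i j v = w) :
    Function.Injective (HomologicalComplex.homologyMap f j) := by
  rw [injective_iff_map_eq_zero]
  intro η hη
  obtain ⟨z, rfl⟩ := homologyπ_surjective K j η
  rw [homologyMap_π, homologyπ_eq_zero_iff hi] at hη
  obtain ⟨y, hy⟩ := hη
  rw [homologyπ_eq_zero_iff hi]
  exact h _ y (d_iCycles j k z) (hy.trans (iCycles_cyclesMap f j z))

theorem homologyMap_surjective_iff (f : K ⟶ L) {i j k : ι} (hi : c.prev j = i) (hk : c.next j = k) :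
    Function.Surjective (HomologicalComplex.homologyMap f j) ↔
      ∀ x : L.X j, L.d j k x = 0 → ∃ (w : K.X j) (y : L.X i), K.d j k w = 0 ∧
        f.f j w + L.d i j y = x := by
  refine ⟨fun hs x hx => ?_, homologyMap_surjective f hi hk⟩
  obtain ⟨z, rfl⟩ := exists_cycle hk x hx
  obtain ⟨η, hη⟩ := hs (L.homologyπ j z)
  obtain ⟨z', rfl⟩ := homologyπ_surjective K j η
  rw [homologyMap_π, eq_comm, ← sub_eq_zero, ← map_sub, homologyπ_eq_zero_iff hi] at hη
  obtain ⟨y, hy⟩ := hη
  refine ⟨K.iCycles j z', y, d_iCycles j k z', ?_⟩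
  rw [hy, map_sub, iCycles_cyclesMap]
  abel

theorem homologyMap_bijective_of (f : K ⟶ L) {i j k : ι} (hi : c.prev j = i) (hk : c.next j = k)
    (hs : ∀ x : L.X j, L.d j k x = 0 → ∃ (w : K.X j) (y : L.X i), K.d j k w = 0 ∧
      f.f j w + L.d i j y = x)
    (hinj : ∀ (w : K.X j) (y : L.X i), K.d j k w = 0 → L.d i j y = f.f j w → ∃ v, K.d i j v = w) :
    Function.Bijective (HomologicalComplex.homologyMap f j) :=
  ⟨homologyMap_injective f hi hk hinj, homologyMap_surjective f hi hk hs⟩

theorem subsingleton_homology_iff (K : HomologicalComplex (ModuleCat.{v} R) c) {i j k : ι}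
    (hi : c.prev j = i) (hk : c.next j = k) :
    Subsingleton (K.homology j) ↔ ∀ x : K.X j, K.d j k x = 0 → ∃ y, K.d i j y = x := by
  constructor
  · intro h x hx
    obtain ⟨z, rfl⟩ := exists_cycle hk x hx
    exact (homologyπ_eq_zero_iff hi z).1 (Subsingleton.elim _ _)
  · intro h
    refine ⟨fun a b => ?_⟩
    obtain ⟨z, rfl⟩ := homologyπ_surjective K j a
    obtain ⟨z', rfl⟩ := homologyπ_surjective K j b
    rw [← sub_eq_zero, ← map_sub, homologyπ_eq_zero_iff hi]
    exact h _ (d_iCycles j k (z - z'))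

theorem isZero_iff_subsingleton (M : ModuleCat.{v} R) : IsZero M ↔ Subsingleton M :=
  ⟨fun h => ModuleCat.subsingleton_of_isZero h, fun _ => ModuleCat.isZero_of_subsingleton M⟩

theorem exactAt_iff_subsingleton (K : HomologicalComplex (ModuleCat.{v} R) c) (j : ι) :
    K.ExactAt j ↔ Subsingleton (K.homology j) :=
  (K.exactAt_iff_isZero_homology j).trans (isZero_iff_subsingleton _)

end Groth.Agent.DMod
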