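import Groth.Prelude.Def_DRing2
import Groth.Agent.Lib.DMod.Homology
import Groth.Agent.Lib.ClassRes.Dual
import Mathlib.Algebra.Homology.DerivedCategory.KProjective
import Mathlib.Algebra.Homology.DerivedCategory.TStructure
import Mathlib.Algebra.Homology.DerivedCategory.ShortExact
import Mathlib.CategoryTheory.Triangulated.Triangulated
import Mathlib.Algebra.Category.ModuleCat.Biproducts
import Mathlib.RingTheory.Finiteness.Prod
import Mathlib.LinearAlgebra.TensorProduct.Prod

/-!
The derived category of modules: cohomological bounds, complexes of projective modules,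
subcomplexes, and cones.
-/

set_option autoImplicit false

universe u

open CategoryTheory CategoryTheory.Limits CategoryTheory.Pretriangulated CategoryTheory.Triangulated

attribute [local instance] HasDerivedCategory.standard

namespace Groth.Agent.DMod

variable {A : Type u} [CommRing A]

/-- The cohomology functors of `D(A)`. -/
noncomputable abbrev HH (i : ℤ) : Dual.D A ⥤ ModuleCat.{u} A :=
  DerivedCategory.homologyFunctor (ModuleCat.{u} A) i

/-- The canonical t-structure. -/
noncomputable abbrev tS (A : Type u) [CommRing A] : TStructure (Dual.D A) :=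
  DerivedCategory.TStructure.t

theorem isLE_iff (K : Dual.D A) (n : ℤ) :
    K.IsLE n ↔ ∀ i : ℤ, n < i → Subsingleton (Dual.HD A K i) :=
  (DerivedCategory.isLE_iff K n).trans (forall₂_congr fun _ _ => isZero_iff_subsingleton _)

theorem isGE_iff (K : Dual.D A) (n : ℤ) :
    K.IsGE n ↔ ∀ i : ℤ, i < n → Subsingleton (Dual.HD A K i) :=
  (DerivedCategory.isGE_iff K n).trans (forall₂_congr fun _ _ => isZero_iff_subsingleton _)

theorem subsingleton_HD_toD_iff (K : DRing.Cx A) (i : ℤ) :
    Subsingleton (Dual.HD A (DRing.toD K) i) ↔ Subsingleton (K.homology i) :=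
  ((DerivedCategory.homologyFunctorFactors (ModuleCat.{u} A) i).app K).toLinearEquiv.toEquiv
    |>.subsingleton_congr

theorem HH_bijective_iff {K L : DRing.Cx A} (f : K ⟶ L) (i : ℤ) :
    Function.Bijective ((HH i).map (DerivedCategory.Q.map f)) ↔
      Function.Bijective (HomologicalComplex.homologyMap f i) := by
  rw [← ConcreteCategory.isIso_iff_bijective, ← ConcreteCategory.isIso_iff_bijective]
  exact NatIso.isIso_map_iff (DerivedCategory.homologyFunctorFactors (ModuleCat.{u} A) i) f

theorem vanishesOutside_iff (K : DRing.Cx A) (a b : ℤ) :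
    DRing.VanishesOutside K a b ↔ K.IsStrictlyGE a ∧ K.IsStrictlyLE b := by
  rw [CochainComplex.isStrictlyGE_iff, CochainComplex.isStrictlyLE_iff]
  exact ⟨fun h => ⟨fun i hi => h i (Or.inl hi), fun i hi => h i (Or.inr hi)⟩,
    fun h i hi => hi.elim (fun hi => h.1 i hi) (fun hi => h.2 i hi)⟩

theorem vanishesAbove_iff (K : DRing.Cx A) (b : ℤ) :
    DRing.VanishesAbove K b ↔ K.IsStrictlyLE b := by
  rw [CochainComplex.isStrictlyLE_iff]; rfl

/-! ### Complexes of projective modules -/

theorem projective_X {P : DRing.Cx A} {i : ℤ} (h : Module.Projective A (P.X i)) :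
    Projective (P.X i) :=
  (IsProjective.iff_projective (P.X i)).1 h

theorem isKProjective {P : DRing.Cx A} (b : ℤ) [P.IsStrictlyLE b]
    (hP : ∀ i, Module.Projective A (P.X i)) : P.IsKProjective :=
  have : ∀ i, Projective (P.X i) := fun i => projective_X (hP i)
  P.isKProjective_of_projective b

theorem exists_map_eq {P L : DRing.Cx A} [P.IsKProjective] (f : DRing.toD P ⟶ DRing.toD L) :
    ∃ g : P ⟶ L, DerivedCategory.Q.map g = f := by
  let e := DerivedCategory.quotientCompQhIso (ModuleCat.{u} A)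
  obtain ⟨g, hg⟩ := (CochainComplex.IsKProjective.Qh_map_bijective P _).surjective
    (e.hom.app P ≫ f ≫ e.inv.app L)
  obtain ⟨g, rfl⟩ := (HomotopyCategory.quotient (ModuleCat.{u} A) (ComplexShape.up ℤ)).map_surjective g
  refine ⟨g, ?_⟩
  rw [← cancel_epi (e.hom.app P), ← cancel_mono (e.inv.app L), Category.assoc]
  refine Eq.trans ?_ (hg.trans (Category.assoc _ _ _).symm)
  have := e.hom.naturality g
  rw [← Category.assoc, ← this, Category.assoc, Iso.hom_inv_id_app, Category.comp_id]
  rfl

theorem map_eq_zero_iff {P L : DRing.Cx A} [P.IsKProjective] (g : P ⟶ L) :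
    DerivedCategory.Q.map g = 0 ↔ Nonempty (Homotopy g 0) := by
  let e := DerivedCategory.quotientCompQhIso (ModuleCat.{u} A)
  let q := HomotopyCategory.quotient (ModuleCat.{u} A) (ComplexShape.up ℤ)
  have h1 : DerivedCategory.Q.map g = 0 ↔ DerivedCategory.Qh.map (q.map g) = 0 := by
    rw [← NatIso.naturality_1 e g]
    constructor
    · intro h; simpa [cancel_epi, cancel_mono] using h
    · intro h
      change e.inv.app P ≫ DerivedCategory.Qh.map (q.map g) ≫ e.hom.app L = 0
      rw [h]; simp
  rw [h1]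
  constructor
  · intro h
    refine ⟨HomotopyCategory.homotopyOfEq _ _ ?_⟩
    apply (CochainComplex.IsKProjective.Qh_map_bijective P _).injective
    rw [h, Functor.map_zero, Functor.map_zero]
  · rintro ⟨h⟩
    rw [HomotopyCategory.eq_of_homotopy _ _ h, Functor.map_zero, Functor.map_zero]

/-- Morphisms from a complex of projectives in degrees `≥ m` to an object `≤ m - 1` vanish. -/
theorem hom_eq_zero {P : DRing.Cx A} [P.IsKProjective] (m n : ℤ) (hmn : n < m) [P.IsStrictlyGE m]
    {X : Dual.D A} [X.IsLE n] (f : DRing.toD P ⟶ X) : f = 0 := by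
  obtain ⟨L, hL, ⟨e⟩⟩ := X.exists_iso_Q_obj_of_isLE n
  obtain ⟨g, hg⟩ := exists_map_eq (f ≫ e.hom)
  have hg0 : g = 0 := by
    ext1 i
    by_cases hi : i < m
    · exact (P.isZero_of_isStrictlyGE m i hi).eq_of_src _ _
    · exact (L.isZero_of_isStrictlyLE n i (by omega)).eq_of_tgt _ _
  rw [hg0, Functor.map_zero] at hg
  rw [← cancel_mono e.hom, ← hg, zero_comp]

/-- Resolutions by free modules. -/
theorem exists_free_resolution (K : Dual.D A) (b : ℤ) [K.IsLE b] :
    ∃ P : DRing.Cx A, P.IsStrictlyLE b ∧ (∀ i, Module.Free A (P.X i)) ∧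
      Nonempty (DRing.toD P ≅ K) := by
  obtain ⟨L, hL, ⟨e⟩⟩ := K.exists_iso_Q_obj_of_isLE b
  obtain ⟨P, α, h1, h2, h3⟩ := ClassRes.exists_leftResolution
    (P := fun M : ModuleCat.{u} A => Module.Free A M)
    ⟨ModuleCat.of A PUnit, ModuleCat.isZero_of_subsingleton _, Module.Free.of_subsingleton A PUnit⟩
    (fun X => ⟨ModuleCat.of A (X →₀ A), ModuleCat.ofHom (Finsupp.linearCombination A id),
      Module.Free.finsupp A A X, (ModuleCat.epi_iff_surjective _).2 fun x =>
        ⟨Finsupp.single x 1, by simp⟩⟩) L b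
  have : IsIso (DerivedCategory.Q.map α) :=
    (DerivedCategory.isIso_Q_map_iff_quasiIso (C := ModuleCat.{u} A) α).2 h3
  exact ⟨P, h1, h2, ⟨asIso (DerivedCategory.Q.map α) ≪≫ e.symm⟩⟩

/-! ### Classes of modules and terms of cones -/

/-- Properties of modules closed under isomorphisms and finite sums. -/
structure ModClass (p : ∀ (M : Type u) [AddCommGroup M] [Module A M], Prop) : Prop where
  subsingleton : ∀ (M : Type u) [AddCommGroup M] [Module A M] [Subsingleton M], p M
  equiv : ∀ {M N : Type u} [AddCommGroup M] [Module A M] [AddCommGroup N] [Module A N],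
    (M ≃ₗ[A] N) → p M → p N
  prod : ∀ {M N : Type u} [AddCommGroup M] [Module A M] [AddCommGroup N] [Module A N],
    p M → p N → p (M × N)

theorem modClass_finiteFree :
    ModClass (A := A) (fun M _ _ => Module.Finite A M ∧ Module.Free A M) where
  subsingleton _ _ _ _ := ⟨inferInstance, Module.Free.of_subsingleton A _⟩
  equiv e h := have := h.1; have := h.2; ⟨Module.Finite.equiv e, Module.Free.of_equiv e⟩
  prod h h' := have := h.1; have := h.2; have := h'.1; have := h'.2; ⟨inferInstance, inferInstance⟩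

theorem modClass_finiteProjective :
    ModClass (A := A) (fun M _ _ => Module.Finite A M ∧ Module.Projective A M) where
  subsingleton M _ _ _ :=
    have := Module.Free.of_subsingleton A M
    ⟨inferInstance, inferInstance⟩
  equiv e h := have := h.1; have := h.2; ⟨Module.Finite.equiv e, Module.Projective.of_equiv e⟩
  prod h h' := have := h.1; have := h.2; have := h'.1; have := h'.2; ⟨inferInstance, inferInstance⟩

theorem modClass_projective : ModClass (A := A) (fun M _ _ => Module.Projective A M) where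
  subsingleton M _ _ _ := have := Module.Free.of_subsingleton A M; inferInstance
  equiv e h := have := h; Module.Projective.of_equiv e
  prod h h' := have := h; have := h'; inferInstance

theorem modClass_flat : ModClass (A := A) (fun M _ _ => Module.Flat A M) where
  subsingleton M _ _ _ := have := Module.Free.of_subsingleton A M; inferInstance
  equiv e h := have := h; Module.Flat.of_linearEquiv e.symm
  prod {M N} _ _ _ _ h h' := by
    have := h; have := h'
    rw [Module.Flat.iff_lTensor_preserves_injective_linearMap]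
    intro P Q _ _ _ _ f hf
    have h₁ := Module.Flat.lTensor_preserves_injective_linearMap (M := M) f hf
    have h₂ := Module.Flat.lTensor_preserves_injective_linearMap (M := N) f hf
    have : ⇑(LinearMap.lTensor (M × N) f) = (TensorProduct.prodLeft A A M N Q).symm ∘
        Prod.map (LinearMap.lTensor M f) (LinearMap.lTensor N f) ∘
          (TensorProduct.prodLeft A A M N P) := by
      have h : (TensorProduct.prodLeft A A M N Q).toLinearMap ∘ₗ LinearMap.lTensor (M × N) f =
          ((LinearMap.lTensor M f).prodMap (LinearMap.lTensor N f)) ∘ₗ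
            (TensorProduct.prodLeft A A M N P).toLinearMap :=
        TensorProduct.ext' fun ⟨m, n⟩ p => by simp
      funext x
      exact (LinearEquiv.eq_symm_apply _).2 (LinearMap.congr_fun h x)
    rw [this]
    exact (LinearEquiv.injective _).comp ((h₁.prodMap h₂).comp (LinearEquiv.injective _))

/-- Terms of a mapping cone. -/
noncomputable def coneXEquiv {F G : DRing.Cx A} (φ : F ⟶ G) (i : ℤ) :
    (CochainComplex.mappingCone φ).X i ≃ₗ[A] F.X (i + 1) × G.X i :=
  (HomologicalComplex.homotopyCofiber.XIsoBiprod φ i (i + 1) rfl ≪≫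
    ModuleCat.biprodIsoProd _ _).toLinearEquiv

theorem cone_mem {p : ∀ (M : Type u) [AddCommGroup M] [Module A M], Prop} (hp : ModClass p)
    {F G : DRing.Cx A} (φ : F ⟶ G) (hF : ∀ i, p (F.X i)) (hG : ∀ i, p (G.X i)) (i : ℤ) :
    p ((CochainComplex.mappingCone φ).X i) :=
  hp.equiv (coneXEquiv φ i).symm (hp.prod (hF (i + 1)) (hG i))

theorem cone_vanishesOutside {F G : DRing.Cx A} (φ : F ⟶ G) {a b a' b' : ℤ}
    (hF : DRing.VanishesOutside F a b) (hG : DRing.VanishesOutside G a' b') (c d : ℤ)
    (h₁ : c ≤ a - 1) (h₂ : c ≤ a') (h₃ : b - 1 ≤ d) (h₄ : b' ≤ d) :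
    DRing.VanishesOutside (CochainComplex.mappingCone φ) c d := by
  intro i hi
  have h1 := ModuleCat.subsingleton_of_isZero (hF (i + 1) (by omega))
  have h2 := ModuleCat.subsingleton_of_isZero (hG i (by omega))
  exact (isZero_iff_subsingleton _).2 (coneXEquiv φ i).toEquiv.subsingleton

theorem cone_isStrictlyLE {F G : DRing.Cx A} (φ : F ⟶ G) (b b' d : ℤ) [F.IsStrictlyLE b]
    [G.IsStrictlyLE b'] (h₃ : b - 1 ≤ d) (h₄ : b' ≤ d) :
    (CochainComplex.mappingCone φ).IsStrictlyLE d := by
  rw [CochainComplex.isStrictlyLE_iff]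
  intro i hi
  have h1 := ModuleCat.subsingleton_of_isZero (F.isZero_of_isStrictlyLE b (i + 1) (by omega))
  have h2 := ModuleCat.subsingleton_of_isZero (G.isZero_of_isStrictlyLE b' i (by omega))
  exact (isZero_iff_subsingleton _).2 (coneXEquiv φ i).toEquiv.subsingleton

theorem exists_cone_triangle {F G : DRing.Cx A} (φ : F ⟶ G) :
    ∃ (g : DRing.toD G ⟶ DRing.toD (CochainComplex.mappingCone φ))
      (h : DRing.toD (CochainComplex.mappingCone φ) ⟶ (DRing.toD F)⟦(1 : ℤ)⟧),
      Triangle.mk (DerivedCategory.Q.map φ) g h ∈ distTriang _ :=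
  ⟨_, _, DerivedCategory.mappingCone_triangle_distinguished φ⟩

theorem mem_shift_X {p : ∀ (M : Type u) [AddCommGroup M] [Module A M], Prop} {K : DRing.Cx A}
    (hK : ∀ i, p (K.X i)) (n i : ℤ) :
    p (((shiftFunctor (DRing.Cx A) n).obj K).X i) :=
  hK (i + n)

theorem vanishesOutside_shift {K : DRing.Cx A} {a b : ℤ} (hK : DRing.VanishesOutside K a b)
    (n a' b' : ℤ) (ha : a' + n = a) (hb : b' + n = b) :
    DRing.VanishesOutside ((shiftFunctor (DRing.Cx A) n).obj K) a' b' :=
  fun i hi => hK (i + n) (by omega)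

/-- `toD` commutes with shifts. -/
noncomputable def toDShiftIso (K : DRing.Cx A) (n : ℤ) :
    DRing.toD ((shiftFunctor (DRing.Cx A) n).obj K) ≅ (DRing.toD K)⟦n⟧ :=
  (DerivedCategory.Q.commShiftIso n).app K

/-! ### Subcomplexes and brutal truncations -/

/-- The subcomplex given by submodules stable under the differential. -/
noncomputable def subCx (K : DRing.Cx A) (S : ∀ i, Submodule A (K.X i))
    (hS : ∀ i, ∀ x ∈ S i, K.d i (i + 1) x ∈ S (i + 1)) : DRing.Cx A :=
  CochainComplex.of (fun i => ModuleCat.of A (S i))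
    (fun i => ModuleCat.ofHom ((K.d i (i + 1)).hom.restrict (hS i)))
    (fun i => by
      ext x
      exact congrArg (fun f : K.X i ⟶ K.X (i + 1 + 1) => f (x : K.X i)) (K.d_comp_d i (i + 1) (i + 1 + 1)))

/-- The quotient complex. -/
noncomputable def quotCx (K : DRing.Cx A) (S : ∀ i, Submodule A (K.X i))
    (hS : ∀ i, ∀ x ∈ S i, K.d i (i + 1) x ∈ S (i + 1)) : DRing.Cx A :=
  CochainComplex.of (fun i => ModuleCat.of A (K.X i ⧸ S i))
    (fun i => ModuleCat.ofHom ((S i).mapQ (S (i + 1)) (K.d i (i + 1)).hom fun x hx => hS i x hx))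
    (fun i => by
      ext x
      refine congrArg Submodule.Quotient.mk
        (congrArg (fun f : K.X i ⟶ K.X (i + 1 + 1) => f x) (K.d_comp_d i (i + 1) (i + 1 + 1))))

/-- The inclusion of a subcomplex. -/
noncomputable def subι (K : DRing.Cx A) (S : ∀ i, Submodule A (K.X i))
    (hS : ∀ i, ∀ x ∈ S i, K.d i (i + 1) x ∈ S (i + 1)) : subCx K S hS ⟶ K where
  f i := ModuleCat.ofHom (S i).subtype
  comm' i j hij := by
    obtain rfl : i + 1 = j := hij
    simp only [subCx, CochainComplex.of_d]
    rfl

/-- The projection to a quotient complex. -/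
noncomputable def quotπ (K : DRing.Cx A) (S : ∀ i, Submodule A (K.X i))
    (hS : ∀ i, ∀ x ∈ S i, K.d i (i + 1) x ∈ S (i + 1)) : K ⟶ quotCx K S hS where
  f i := ModuleCat.ofHom (S i).mkQ
  comm' i j hij := by
    obtain rfl : i + 1 = j := hij
    simp only [quotCx, CochainComplex.of_d]
    rfl

theorem exists_sub_triangle (K : DRing.Cx A) (S : ∀ i, Submodule A (K.X i))
    (hS : ∀ i, ∀ x ∈ S i, K.d i (i + 1) x ∈ S (i + 1)) :
    ∃ h : DRing.toD (quotCx K S hS) ⟶ (DRing.toD (subCx K S hS))⟦(1 : ℤ)⟧,
      Triangle.mk (DerivedCategory.Q.map (subι K S hS)) (DerivedCategory.Q.map (quotπ K S hS)) h ∈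
        distTriang _ := by
  let T : ShortComplex (DRing.Cx A) := ShortComplex.mk (subι K S hS) (quotπ K S hS) (by
    ext i x
    exact (Submodule.Quotient.mk_eq_zero (S i)).2 x.2)
  have hT : T.ShortExact := by
    refine HomologicalComplex.shortExact_of_degreewise_shortExact T fun i => ?_
    exact ModuleCat.shortComplex_shortExact _ (LinearMap.exact_subtype_mkQ (S i))
      (Submodule.injective_subtype _) (Submodule.mkQ_surjective _)
  exact ⟨_, DerivedCategory.triangleOfSES_distinguished hT⟩

/-- The brutal truncation `σ≥m`: its submodules. -/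
noncomputable def geSub (K : DRing.Cx A) (m i : ℤ) : Submodule A (K.X i) :=
  if m ≤ i then ⊤ else ⊥

theorem geSub_stable (K : DRing.Cx A) (m i : ℤ) (x : K.X i) (hx : x ∈ geSub K m i) :
    K.d i (i + 1) x ∈ geSub K m (i + 1) := by
  unfold geSub at *
  split_ifs with h
  · trivial
  · rw [if_neg (by omega)] at hx
    rw [(Submodule.mem_bot A).1 hx, map_zero]
    exact zero_mem _

/-- The brutal truncation `σ≥m`. -/
noncomputable abbrev sigmaGE (K : DRing.Cx A) (m : ℤ) : DRing.Cx A :=
  subCx K (geSub K m) (geSub_stable K m)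

/-- The brutal truncation `σ<m`. -/
noncomputable abbrev sigmaLT (K : DRing.Cx A) (m : ℤ) : DRing.Cx A :=
  quotCx K (geSub K m) (geSub_stable K m)

/-- Terms of `σ≥m` in degrees `≥ m`. -/
noncomputable def sigmaGEXEquiv (K : DRing.Cx A) (m i : ℤ) (h : m ≤ i) :
    (sigmaGE K m).X i ≃ₗ[A] K.X i :=
  LinearEquiv.ofTop (geSub K m i) (if_pos h)

/-- Terms of `σ<m` in degrees `< m`. -/
noncomputable def sigmaLTXEquiv (K : DRing.Cx A) (m i : ℤ) (h : i < m) :
    (sigmaLT K m).X i ≃ₗ[A] K.X i :=
  (geSub K m i).quotEquivOfEqBot (if_neg (by omega))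

instance isStrictlyGE_sigmaGE (K : DRing.Cx A) (m : ℤ) : (sigmaGE K m).IsStrictlyGE m := by
  rw [CochainComplex.isStrictlyGE_iff]
  intro i hi
  have : Subsingleton ↥(geSub K m i) := by
    rw [geSub, if_neg (by omega)]; infer_instance
  exact (isZero_iff_subsingleton _).2 this

theorem isStrictlyLE_sigmaLT (K : DRing.Cx A) (m n : ℤ) (h : n + 1 = m) :
    (sigmaLT K m).IsStrictlyLE n := by
  rw [CochainComplex.isStrictlyLE_iff]
  intro i hi
  have : Subsingleton (K.X i ⧸ geSub K m i) := by
    rw [Submodule.Quotient.subsingleton_iff, geSub, if_pos (by omega)]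
  exact (isZero_iff_subsingleton _).2 this

theorem sigmaGE_mem {p : ∀ (M : Type u) [AddCommGroup M] [Module A M], Prop} (hp : ModClass p)
    {K : DRing.Cx A} (hK : ∀ i, p (K.X i)) (m i : ℤ) : p ((sigmaGE K m).X i) := by
  by_cases h : m ≤ i
  · exact hp.equiv (sigmaGEXEquiv K m i h).symm (hK i)
  · have := ModuleCat.subsingleton_of_isZero
      ((sigmaGE K m).isZero_of_isStrictlyGE m i (by omega))
    exact hp.subsingleton _

theorem sigmaLT_mem {p : ∀ (M : Type u) [AddCommGroup M] [Module A M], Prop} (hp : ModClass p)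
    {K : DRing.Cx A} (hK : ∀ i, p (K.X i)) (m i : ℤ) : p ((sigmaLT K m).X i) := by
  by_cases h : i < m
  · exact hp.equiv (sigmaLTXEquiv K m i h).symm (hK i)
  · have := isStrictlyLE_sigmaLT K m (m - 1) (by omega)
    have : Subsingleton ((sigmaLT K m).X i) := ModuleCat.subsingleton_of_isZero
      ((sigmaLT K m).isZero_of_isStrictlyLE (m - 1) i (by omega))
    exact @ModClass.subsingleton _ _ _ hp _ _ _ this

theorem vanishesOutside_sigmaGE {K : DRing.Cx A} {a b : ℤ} (hK : DRing.VanishesOutside K a b) (m : ℤ) :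
    DRing.VanishesOutside (sigmaGE K m) (max a m) b := by
  intro i hi
  by_cases h : m ≤ i
  · have := ModuleCat.subsingleton_of_isZero (hK i (by omega))
    exact (isZero_iff_subsingleton _).2 (sigmaGEXEquiv K m i h).toEquiv.subsingleton
  · exact (sigmaGE K m).isZero_of_isStrictlyGE m i (by omega)

theorem vanishesOutside_sigmaLT {K : DRing.Cx A} {a b : ℤ} (hK : DRing.VanishesOutside K a b) (m : ℤ) :
    DRing.VanishesOutside (sigmaLT K m) a (min b (m - 1)) := by
  intro i hi
  by_cases h : i < m
  · have := ModuleCat.subsingleton_of_isZero (hK i (by omega))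
    exact (isZero_iff_subsingleton _).2 (sigmaLTXEquiv K m i h).toEquiv.subsingleton
  · have := isStrictlyLE_sigmaLT K m (m - 1) (by omega)
    exact (sigmaLT K m).isZero_of_isStrictlyLE (m - 1) i (by omega)

/-! ### Morphisms with cone `≤ m - 1` -/

theorem cone_isLE_iff (T : Triangle (Dual.D A)) (hT : T ∈ distTriang _) (m : ℤ) :
    T.obj₃.IsLE (m - 1) ↔
      (∀ i : ℤ, m < i → IsIso ((HH i).map T.mor₁)) ∧ Epi ((HH m).map T.mor₁) := by
  have e₁ := fun i => DerivedCategory.HomologySequence.epi_homologyMap_mor₁_iff T hT i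
  have e₂ := fun i => DerivedCategory.HomologySequence.mono_homologyMap_mor₁_iff T hT i (i + 1) rfl
  rw [DerivedCategory.isLE_iff]
  constructor
  · intro h
    refine ⟨fun i hi => ?_, (e₁ m).2 ((h m (by omega)).eq_of_tgt _ _)⟩
    have : Epi ((HH i).map T.mor₁) := (e₁ i).2 ((h i (by omega)).eq_of_tgt _ _)
    obtain ⟨j, rfl⟩ : ∃ j, j + 1 = i := ⟨i - 1, by omega⟩
    have : Mono ((HH (j + 1)).map T.mor₁) := (e₂ j).2 ((h j (by omega)).eq_of_src _ _)
    exact isIso_of_mono_of_epi _
  · rintro ⟨h1, h2⟩ i hi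
    have hg : (HH i).map T.mor₂ = 0 := by
      refine (e₁ i).1 ?_
      rcases eq_or_lt_of_le (show m ≤ i by omega) with h | h
      · exact h ▸ h2
      · have := h1 i h; infer_instance
    have hd : DerivedCategory.HomologySequence.δ T i (i + 1) rfl = 0 := by
      have := h1 (i + 1) (by omega)
      exact (e₂ i).1 inferInstance
    exact (DerivedCategory.HomologySequence.exact₃ T hT i (i + 1) rfl).isZero_of_both_zeros hg hd

theorem isLE_of_triangle₂ (T : Triangle (Dual.D A)) (hT : T ∈ distTriang _) (n : ℤ)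
    (h₁ : T.obj₁.IsLE n) (h₃ : T.obj₃.IsLE n) : T.obj₂.IsLE n := by
  rw [DerivedCategory.isLE_iff]
  intro i hi
  exact (DerivedCategory.HomologySequence.exact₂ T hT i).isZero_of_both_zeros
    ((DerivedCategory.isZero_of_isLE _ n i hi).eq_of_src _ _)
    ((DerivedCategory.isZero_of_isLE _ n i hi).eq_of_tgt _ _)

theorem isLE_of_triangle₃ (T : Triangle (Dual.D A)) (hT : T ∈ distTriang _) (n : ℤ)
    (h₁ : T.obj₁.IsLE (n + 1)) (h₂ : T.obj₂.IsLE n) : T.obj₃.IsLE n :=
  isLE_of_triangle₂ _ (rot_of_distTriang _ hT) n h₂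
    ((tS A).isLE_shift _ (n + 1) 1 n)

theorem isLE_of_triangle₁ (T : Triangle (Dual.D A)) (hT : T ∈ distTriang _) (n : ℤ)
    (h₂ : T.obj₂.IsLE n) (h₃ : T.obj₃.IsLE (n - 1)) : T.obj₁.IsLE n :=
  isLE_of_triangle₂ _ (inv_rot_of_distTriang _ hT) n ((tS A).isLE_shift _ (n - 1) (-1) n) h₂

end Groth.Agent.DMod
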