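import Groth.Agent.Lib.DMod.Basic

/-!
The canonical truncation of a complex of modules from below, with elementwise terms.
-/

set_option autoImplicit false

universe u

open CategoryTheory CategoryTheory.Limits CategoryTheory.Pretriangulated CategoryTheory.Triangulated

attribute [local instance] HasDerivedCategory.standard

namespace Groth.Agent.DMod

variable {A : Type u} [CommRing A]

/-- The subcomplex `⋯ → K^{n-1} → range d → 0`. -/
noncomputable def ltSub (K : DRing.Cx A) (n i : ℤ) : Submodule A (K.X i) :=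
  if i < n then ⊤ else if i = n then LinearMap.range (K.d (i - 1) i).hom else ⊥

theorem ltSub_of_lt (K : DRing.Cx A) {n i : ℤ} (h : i < n) : ltSub K n i = ⊤ := if_pos h

theorem ltSub_self (K : DRing.Cx A) (n : ℤ) : ltSub K n n = LinearMap.range (K.d (n - 1) n).hom :=
  (if_neg (lt_irrefl n)).trans (if_pos rfl)

theorem ltSub_of_gt (K : DRing.Cx A) {n i : ℤ} (h : n < i) : ltSub K n i = ⊥ :=
  (if_neg (by omega)).trans (if_neg (by omega))

theorem ltSub_stable (K : DRing.Cx A) (n i : ℤ) (x : K.X i) (hx : x ∈ ltSub K n i) :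
    K.d i (i + 1) x ∈ ltSub K n (i + 1) := by
  rcases lt_trichotomy i n with h | h | h
  · rcases eq_or_lt_of_le (show i + 1 ≤ n by omega) with h' | h'
    · subst h'
      rw [ltSub_self, show i + 1 - 1 = i by omega]
      exact LinearMap.mem_range_self _ x
    · rw [ltSub_of_lt K h']; trivial
  · subst h
    rw [ltSub_self] at hx
    obtain ⟨y, rfl⟩ := hx
    have : K.d i (i + 1) (K.d (i - 1) i y) = 0 := by
      rw [← ModuleCat.comp_apply, K.d_comp_d]; rfl
    rw [this]; exact zero_mem _
  · rw [ltSub_of_gt K h, Submodule.mem_bot] at hx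
    rw [hx, map_zero]; exact zero_mem _

/-- The truncated complex. -/
noncomputable def truncFrom (K : DRing.Cx A) (n : ℤ) : DRing.Cx A :=
  quotCx K (ltSub K n) (ltSub_stable K n)

/-- The projection. -/
noncomputable def truncFromπ (K : DRing.Cx A) (n : ℤ) : K ⟶ truncFrom K n :=
  quotπ K (ltSub K n) (ltSub_stable K n)

theorem truncFromπ_surjective (K : DRing.Cx A) (n i : ℤ) :
    Function.Surjective ((truncFromπ K n).f i) :=
  Submodule.mkQ_surjective (ltSub K n i)

theorem truncFromπ_eq_zero_iff (K : DRing.Cx A) (n i : ℤ) (x : K.X i) :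
    (truncFromπ K n).f i x = 0 ↔ x ∈ ltSub K n i :=
  Submodule.Quotient.mk_eq_zero _

theorem isZero_truncFrom_X (K : DRing.Cx A) {n i : ℤ} (h : i < n) :
    IsZero ((truncFrom K n).X i) := by
  refine (isZero_iff_subsingleton _).2 ⟨fun a b => ?_⟩
  obtain ⟨x, rfl⟩ := truncFromπ_surjective K n i a
  obtain ⟨y, rfl⟩ := truncFromπ_surjective K n i b
  rw [← sub_eq_zero, ← map_sub, truncFromπ_eq_zero_iff, ltSub_of_lt K h]
  trivial

/-- Above `n` the terms are unchanged. -/
noncomputable def truncFromXEquiv (K : DRing.Cx A) {n i : ℤ} (h : n < i) :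
    K.X i ≃ₗ[A] (truncFrom K n).X i :=
  LinearEquiv.ofBijective ((truncFromπ K n).f i).hom
    ⟨(injective_iff_map_eq_zero _).2 fun x hx => by
      have := (truncFromπ_eq_zero_iff K n i x).1 hx
      rwa [ltSub_of_gt K h, Submodule.mem_bot] at this,
    truncFromπ_surjective K n i⟩

theorem vanishesOutside_truncFrom (K : DRing.Cx A) (n b : ℤ) [K.IsStrictlyLE b] :
    DRing.VanishesOutside (truncFrom K n) n b := by
  intro i hi
  rcases hi with hi | hi
  · exact isZero_truncFrom_X K hi
  · have := ModuleCat.subsingleton_of_isZero (K.isZero_of_isStrictlyLE b i hi)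
    exact (isZero_iff_subsingleton _).2 (truncFromπ_surjective K n i).subsingleton

theorem truncFromπ_bijective (K : DRing.Cx A) {n j : ℤ} (h : n ≤ j) :
    Function.Bijective (HomologicalComplex.homologyMap (truncFromπ K n) j) := by
  refine homologyMap_bijective_of (truncFromπ K n) (i := j - 1) (k := j + 1) (by simp) (by simp)
    (fun x hx => ?_) (fun w y _ hy => ?_)
  · obtain ⟨w, rfl⟩ := truncFromπ_surjective K n j x
    refine ⟨w, 0, ?_, by rw [map_zero, add_zero]⟩
    rw [← ModuleCat.comp_apply, (truncFromπ K n).comm, ModuleCat.comp_apply,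
      truncFromπ_eq_zero_iff, ltSub_of_gt K (by omega), Submodule.mem_bot] at hx
    exact hx
  · rcases eq_or_lt_of_le h with hj | hj
    · subst hj
      have := ModuleCat.subsingleton_of_isZero (isZero_truncFrom_X K (n := n) (i := n - 1) (by omega))
      rw [Subsingleton.elim y 0, map_zero, eq_comm, truncFromπ_eq_zero_iff, ltSub_self] at hy
      exact hy
    · obtain ⟨v, rfl⟩ := truncFromπ_surjective K n (j - 1) y
      rw [← ModuleCat.comp_apply, (truncFromπ K n).comm, ModuleCat.comp_apply, ← sub_eq_zero,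
        ← map_sub, truncFromπ_eq_zero_iff, ltSub_of_gt K hj, Submodule.mem_bot, sub_eq_zero] at hy
      exact ⟨v, hy⟩

theorem subsingleton_truncFrom_homology (K : DRing.Cx A) {n j : ℤ} (h : j < n) :
    Subsingleton ((truncFrom K n).homology j) := by
  rw [subsingleton_homology_iff _ (i := j - 1) (k := j + 1) (by simp) (by simp)]
  have := ModuleCat.subsingleton_of_isZero (isZero_truncFrom_X K h)
  exact fun x _ => ⟨0, Subsingleton.elim _ _⟩

theorem isIso_Q_map_truncFromπ (K : DRing.Cx A) (n : ℤ) [(DRing.toD K).IsGE n] :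
    IsIso (DerivedCategory.Q.map (truncFromπ K n)) := by
  rw [DerivedCategory.isIso_Q_map_iff_quasiIso, quasiIso_iff]
  intro j
  rw [quasiIsoAt_iff_isIso_homologyMap, ConcreteCategory.isIso_iff_bijective]
  by_cases hj : j < n
  · have h1 : Subsingleton (K.homology j) :=
      (subsingleton_HD_toD_iff K j).1 ((isGE_iff _ n).1 inferInstance j hj)
    have h2 := subsingleton_truncFrom_homology K hj
    exact ⟨fun _ _ _ => Subsingleton.elim _ _, fun y => ⟨0, Subsingleton.elim _ _⟩⟩
  · exact truncFromπ_bijective K (by omega)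

/-- A map into a complex vanishing below `n` factors through the truncation. -/
theorem exists_truncFrom_desc (K : DRing.Cx A) {G : DRing.Cx A} (f : K ⟶ G) (n : ℤ)
    [G.IsStrictlyGE n] : ∃ g : truncFrom K n ⟶ G, truncFromπ K n ≫ g = f := by
  have h : ∀ i, ltSub K n i ≤ LinearMap.ker (f.f i).hom := fun i x hx => by
    rcases lt_trichotomy i n with hi | hi | hi
    · exact (ModuleCat.subsingleton_of_isZero (G.isZero_of_isStrictlyGE n i hi)).elim _ _
    · subst hi
      rw [ltSub_self] at hx
      obtain ⟨y, rfl⟩ := hx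
      have := ModuleCat.subsingleton_of_isZero (G.isZero_of_isStrictlyGE i (i - 1) (by omega))
      change f.f i (K.d (i - 1) i y) = 0
      rw [← ModuleCat.comp_apply, ← f.comm, ModuleCat.comp_apply,
        Subsingleton.elim (f.f (i - 1) y) 0, map_zero]
    · rw [ltSub_of_gt K hi, Submodule.mem_bot] at hx
      rw [hx]; exact zero_mem _
  refine ⟨{ f := fun i => ModuleCat.ofHom ((ltSub K n i).liftQ (f.f i).hom (h i))
            comm' := fun i j hij => ?_ }, ?_⟩
  · ext x
    obtain ⟨w, rfl⟩ := truncFromπ_surjective K n i x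
    simp only [ModuleCat.hom_comp, LinearMap.comp_apply]
    rw [← ModuleCat.comp_apply (truncFromπ K n |>.f i) ((truncFrom K n).d i j),
      (truncFromπ K n).comm]
    change G.d i j (f.f i w) = f.f j (K.d i j w)
    rw [← ModuleCat.comp_apply, f.comm, ModuleCat.comp_apply]
  · ext i x
    rfl

/-- An object with cohomology in `≥ n` is its truncation. -/
theorem exists_truncFrom_iso (K : DRing.Cx A) (n : ℤ) [(DRing.toD K).IsGE n] :
    Nonempty (DRing.toD (truncFrom K n) ≅ DRing.toD K) :=
  have := isIso_Q_map_truncFromπ K n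
  ⟨(asIso (DerivedCategory.Q.map (truncFromπ K n))).symm⟩

end Groth.Agent.DMod
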