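import Groth.Agent.Lib.DMod.PC

/-!
Finiteness of top cohomology of pseudo-coherent objects.
-/

set_option autoImplicit false

universe u

open CategoryTheory CategoryTheory.Limits CategoryTheory.Pretriangulated CategoryTheory.Triangulated

attribute [local instance] HasDerivedCategory.standard

namespace Groth.Agent.DMod

variable {A : Type u} [CommRing A]

/-- A split piece of a complex: the kernel of a surjection onto a projective is a direct summand. -/
theorem finite_projective_ker {M N : Type u} [AddCommGroup M] [Module A M] [AddCommGroup N]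
    [Module A N] [Module.Finite A M] [Module.Projective A M] (f : M →ₗ[A] N) (K' : Submodule A N)
    (hK : LinearMap.range f = K') [Module.Projective A ↥K'] :
    Module.Finite A ↥(LinearMap.ker f) ∧ Module.Projective A ↥(LinearMap.ker f) := by
  let g : M →ₗ[A] ↥K' := f.codRestrict K' fun x => hK ▸ LinearMap.mem_range_self f x
  have hg : Function.Surjective g := by
    rintro ⟨y, hy⟩
    rw [← hK] at hy
    obtain ⟨x, hx⟩ := hy
    exact ⟨x, Subtype.ext hx⟩
  obtain ⟨σ, hσ⟩ := Module.projective_lifting_property g LinearMap.id hg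
  let π : M →ₗ[A] ↥(LinearMap.ker f) := (LinearMap.id - σ ∘ₗ g).codRestrict _ fun x => by
    change f (x - σ (g x)) = 0
    rw [map_sub, sub_eq_zero]
    exact (congrArg Subtype.val (LinearMap.congr_fun hσ (g x))).symm
  have hπ : π ∘ₗ (LinearMap.ker f).subtype = LinearMap.id := by
    ext ⟨x, hx⟩
    have : g x = 0 := Subtype.ext hx
    simp [π, this]
  exact ⟨Module.Finite.of_surjective π fun x => ⟨x, LinearMap.congr_fun hπ x⟩,
    Module.Projective.of_split _ π hπ⟩

/-- Cycles at and above `m` of a bounded complex of finite projectives exact above `m`. -/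
theorem finite_projective_cycles {E : DRing.Cx A} (m b : ℤ) [E.IsStrictlyLE b]
    (hE : DRing.TermwiseFiniteProjective E)
    (hex : ∀ i, m < i → Subsingleton (E.homology i)) :
    ∀ i, m ≤ i → Module.Finite A ↥(LinearMap.ker (E.d i (i + 1)).hom) ∧
      Module.Projective A ↥(LinearMap.ker (E.d i (i + 1)).hom) := by
  suffices h : ∀ (n : ℕ) i, m ≤ i → b < i + n →
      Module.Finite A ↥(LinearMap.ker (E.d i (i + 1)).hom) ∧
        Module.Projective A ↥(LinearMap.ker (E.d i (i + 1)).hom) from
    fun i hi => h (b + 1 - i).toNat i hi (by omega)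
  intro n
  induction n with
  | zero =>
    intro i _ hib
    have : Subsingleton (E.X i) :=
      ModuleCat.subsingleton_of_isZero (E.isZero_of_isStrictlyLE b i (by simpa using hib))
    have := Module.Free.of_subsingleton A ↥(LinearMap.ker (E.d i (i + 1)).hom)
    exact ⟨inferInstance, inferInstance⟩
  | succ n ih =>
    intro i hi hib
    obtain ⟨h1, h2⟩ := ih (i + 1) (by omega) (by omega)
    have := (hE i).1
    have := (hE i).2
    refine finite_projective_ker _ (LinearMap.ker (E.d (i + 1) (i + 1 + 1)).hom) (le_antisymm ?_ ?_)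
    · rintro _ ⟨x, rfl⟩
      exact congrArg (fun f : E.X i ⟶ E.X (i + 1 + 1) => f x) (E.d_comp_d i (i + 1) (i + 1 + 1))
    · intro x hx
      exact (subsingleton_homology_iff E (i := i) (k := i + 1 + 1) (by simp) (by simp)).1
        (hex (i + 1) (by omega)) x hx

theorem finite_homology_of_cycles {E : DRing.Cx A} {i j : ℤ} (hij : i + 1 = j)
    [Module.Finite A ↥(LinearMap.ker (E.d i j).hom)] : Module.Finite A (E.homology i) := by
  subst hij
  let T := E.sc' (i - 1) i (i + 1)
  have : Module.Finite A ↥(LinearMap.ker T.g.hom) :=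
    inferInstanceAs (Module.Finite A ↥(LinearMap.ker (E.d i (i + 1)).hom))
  have : Module.Finite A T.moduleCatLeftHomologyData.H :=
    inferInstanceAs (Module.Finite A (_ ⧸ LinearMap.range T.moduleCatToCycles))
  exact Module.Finite.equiv
    (ShortComplex.homologyMapIso (E.isoSc' (i - 1) i (i + 1) (by simp) (by simp)) ≪≫
      T.moduleCatHomologyIso).toLinearEquiv.symm

/-- The top cohomology of an `m`-pseudo-coherent object `≤ m` is finite. -/
theorem finite_top {m : ℤ} {K : Dual.D A} [K.IsLE m] (h : DRing.IsPseudoCoherent A m K) :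
    Module.Finite A (Dual.HD A K m) := by
  obtain ⟨E, a, b, α, hE, hF, h1, h2⟩ := h
  have := ((vanishesOutside_iff E a b).1 hE).2
  have hex : ∀ i, m < i → Subsingleton (E.homology i) := fun i hi => by
    rw [← subsingleton_HD_toD_iff]
    have := h1 i hi
    exact (isZero_iff_subsingleton _).1
      ((DerivedCategory.isZero_of_isLE K m i hi).of_iso (asIso ((HH i).map α)))
  have := (finite_projective_cycles m b
    (fun i => ⟨(hF i).1, have := (hF i).2; inferInstance⟩) hex m le_rfl).1
  have : Module.Finite A (E.homology m) := finite_homology_of_cycles rfl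
  have : Module.Finite A
      ((HomologicalComplex.homologyFunctor (ModuleCat.{u} A) (ComplexShape.up ℤ) m).obj E) :=
    inferInstanceAs (Module.Finite A (E.homology m))
  have : Module.Finite A (Dual.HD A (DRing.toD E) m) := Module.Finite.equiv
    ((DerivedCategory.homologyFunctorFactors (ModuleCat.{u} A) m).app E).toLinearEquiv.symm
  exact Module.Finite.of_surjective ((HH m).map α).hom ((ModuleCat.epi_iff_surjective _).1 h2)

open CochainComplex in
/-- Generators of the pairs underlying top cycles of a cone. -/
theorem exists_finset_cone {E K : DRing.Cx A} (φ : E ⟶ K) (p n q r : ℤ) (hp : p + 1 = n)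
    (hq : n + 1 = q) (hr : q + 1 = r) (hEn : IsZero (E.X n))
    [Module.Finite A ((mappingCone φ).homology n)] :
    ∃ S : Finset (E.X q × K.X n),
      (∀ s ∈ S, E.d q r s.1 = 0 ∧ φ.f q s.1 + K.d n q s.2 = 0) ∧
      ∀ (e : E.X q) (x : K.X n), E.d q r e = 0 → φ.f q e + K.d n q x = 0 →
        (e, x) ∈ Submodule.span A (S : Set (E.X q × K.X n)) ⊔
          LinearMap.range ((LinearMap.inr A (E.X q) (K.X n)) ∘ₗ (K.d p n).hom) := by
  classical
  obtain ⟨T, hT⟩ := Module.Finite.fg_top (R := A) (M := (mappingCone φ).homology n)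
  choose z hz using homologyπ_surjective (mappingCone φ) n
  let π : (mappingCone φ).X n →ₗ[A] E.X q × K.X n :=
    ((mappingCone.fst φ).1.v n q hq).hom.prod ((mappingCone.snd φ).v n n (add_zero n)).hom
  have hfst : ∀ w, ((mappingCone.fst φ).1.v q r hr) ((mappingCone φ).d n q w) =
      -E.d q r (((mappingCone.fst φ).1.v n q hq) w) := fun w => by
    have := congrArg (fun f : (mappingCone φ).X n ⟶ E.X r => f w) (mappingCone.d_fst_v φ n q r hq hr)
    simpa using this
  have hsnd : ∀ w, ((mappingCone.snd φ).v q q (add_zero q)) ((mappingCone φ).d n q w) =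
      φ.f q (((mappingCone.fst φ).1.v n q hq) w) +
        K.d n q (((mappingCone.snd φ).v n n (add_zero n)) w) := fun w => by
    have := congrArg (fun f : (mappingCone φ).X n ⟶ K.X q => f w) (mappingCone.d_snd_v φ n q hq)
    simpa using this
  let ζ : (mappingCone φ).homology n → (mappingCone φ).X n :=
    fun t => (mappingCone φ).iCycles n (z t)
  have hζ : ∀ t, (mappingCone φ).d n q (ζ t) = 0 := fun t => d_iCycles n q _
  refine ⟨T.image fun t => π (ζ t), fun s hs => ?_, fun e x he hx => ?_⟩
  · obtain ⟨t, -, rfl⟩ := Finset.mem_image.1 hs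
    refine ⟨?_, ?_⟩
    · have := hfst (ζ t)
      rw [hζ, map_zero] at this
      exact neg_eq_zero.1 this.symm
    · have := hsnd (ζ t)
      rw [hζ, map_zero] at this
      exact this.symm
  · let w : (mappingCone φ).X n :=
      ((mappingCone.inl φ).v q n (by omega)) e + (mappingCone.inr φ).f n x
    have hw₁ : ((mappingCone.fst φ).1.v n q hq) w = e := by
      simp only [w, map_add]
      rw [← ModuleCat.comp_apply, ← ModuleCat.comp_apply]
      simp
    have hw₂ : ((mappingCone.snd φ).v n n (add_zero n)) w = x := by
      simp only [w, map_add]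
      rw [← ModuleCat.comp_apply, ← ModuleCat.comp_apply]
      simp
    have hdw : (mappingCone φ).d n q w = 0 := by
      have h1 : ((mappingCone.fst φ).1.v q r hr) ((mappingCone φ).d n q w) = 0 := by
        rw [hfst, hw₁, he, neg_zero]
      have h2 : ((mappingCone.snd φ).v q q (add_zero q)) ((mappingCone φ).d n q w) = 0 := by
        rw [hsnd, hw₁, hw₂, hx]
      have h := congrArg (fun f : (mappingCone φ).X q ⟶ (mappingCone φ).X q =>
        f ((mappingCone φ).d n q w)) (mappingCone.id_X φ q r hr)
      simp only [ModuleCat.hom_add, LinearMap.add_apply, ModuleCat.hom_comp, LinearMap.comp_apply,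
        ModuleCat.id_apply] at h
      rw [← h, h1, h2]
      simp
    obtain ⟨c, hc⟩ : ∃ c, (mappingCone φ).iCycles n c = w :=
      exists_cycle (by simp; omega) w hdw
    have key : ∀ η, ∃ c', (mappingCone φ).homologyπ n c' = η ∧
        π ((mappingCone φ).iCycles n c') ∈
          Submodule.span A ((T.image fun t => π (ζ t) : Finset _) : Set (E.X q × K.X n)) := by
      intro η
      have hη : η ∈ Submodule.span A (T : Set ((mappingCone φ).homology n)) := hT ▸ trivial
      induction hη using Submodule.span_induction with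
      | mem t ht => exact ⟨z t, hz t, Submodule.subset_span (Finset.mem_image_of_mem _ ht)⟩
      | zero => exact ⟨0, map_zero _, by rw [map_zero, map_zero]; exact zero_mem _⟩
      | add a b _ _ ha hb =>
        obtain ⟨c₁, h₁, h₁'⟩ := ha
        obtain ⟨c₂, h₂, h₂'⟩ := hb
        exact ⟨c₁ + c₂, by rw [map_add, h₁, h₂], by rw [map_add, map_add]; exact add_mem h₁' h₂'⟩
      | smul a t _ ha =>
        obtain ⟨c₁, h₁, h₁'⟩ := ha
        exact ⟨a • c₁, by rw [map_smul, h₁], by rw [map_smul, map_smul]; exact Submodule.smul_mem _ a h₁'⟩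
    obtain ⟨c', hc', hmem⟩ := key ((mappingCone φ).homologyπ n c)
    obtain ⟨y, hy⟩ := (homologyπ_eq_zero_iff (i := p) (by simp; omega) (c - c')).1
      (by rw [map_sub, hc', sub_self])
    have hE0 := ModuleCat.subsingleton_of_isZero hEn
    have e1 : ((mappingCone.fst φ).1.v n q hq) ((mappingCone φ).d p n y) = 0 := by
      have := congrArg (fun f : (mappingCone φ).X p ⟶ E.X q => f y)
        (mappingCone.d_fst_v φ p n q hp hq)
      simp only [ModuleCat.comp_apply] at this
      rw [this]
      simp [Subsingleton.elim (((mappingCone.fst φ).1.v p n hp) y) 0]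
    have e2 : ((mappingCone.snd φ).v n n (add_zero n)) ((mappingCone φ).d p n y) =
        K.d p n (((mappingCone.snd φ).v p p (add_zero p)) y) := by
      have := congrArg (fun f : (mappingCone φ).X p ⟶ K.X n => f y)
        (mappingCone.d_snd_v φ p n hp)
      simp only [ModuleCat.comp_apply] at this
      rw [this]
      simp [Subsingleton.elim (((mappingCone.fst φ).1.v p n hp) y) 0]
    refine Submodule.mem_sup.2 ⟨_, hmem, (0, K.d p n (((mappingCone.snd φ).v p p (add_zero p)) y)),
      ⟨((mappingCone.snd φ).v p p (add_zero p)) y, rfl⟩, ?_⟩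
    have : π ((mappingCone φ).iCycles n c') + π ((mappingCone φ).d p n y) =
        π ((mappingCone φ).iCycles n c) := by
      rw [hy, map_sub, map_sub, add_sub_cancel]
    rw [hc] at this
    refine Eq.trans ?_ (this.trans (Prod.ext hw₁ hw₂))
    congr 1
    exact Prod.ext e1.symm e2.symm

end Groth.Agent.DMod
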