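import Groth.Agent.Lib.DMod.Finite
import Mathlib.Algebra.Homology.Embedding.ExtendHomology
import Mathlib.Algebra.Homology.Embedding.HomEquiv
import Mathlib.Algebra.Homology.Embedding.CochainComplex
import Mathlib.LinearAlgebra.Finsupp.LinearCombination

/-!
Pseudo-coherent objects are those which are `m`-pseudo-coherent for all `m`:
construction of resolutions by finite free modules.
-/

set_option autoImplicit false

universe u

open CategoryTheory CategoryTheory.Limits CategoryTheory.Pretriangulated CategoryTheory.Triangulated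
open ComplexShape

attribute [local instance] HasDerivedCategory.standard

namespace Groth.Agent.DMod

variable {A : Type u} [CommRing A]

section Construction

variable (K : ChainComplex (ModuleCat.{u} A) ℕ)

open Classical in
/-- Chosen generators modulo `B`, when they exist. -/
noncomputable def gens {M : Type u} [AddCommGroup M] [Module A M] (P B : Submodule A M) :
    Finset M :=
  if h : ∃ S : Finset M, (S : Set M) ⊆ P ∧ P ≤ Submodule.span A S ⊔ B then h.choose else ∅

theorem gens_subset {M : Type u} [AddCommGroup M] [Module A M] (P B : Submodule A M) :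
    (gens P B : Set M) ⊆ P := by
  unfold gens
  split_ifs with h
  · exact h.choose_spec.1
  · simp

theorem gens_spec {M : Type u} [AddCommGroup M] [Module A M] (P B : Submodule A M)
    (h : ∃ S : Finset M, (S : Set M) ⊆ P ∧ P ≤ Submodule.span A S ⊔ B) :
    P ≤ Submodule.span A (gens P B : Set M) ⊔ B := by
  unfold gens
  rw [dif_pos h]
  exact h.choose_spec.2

/-- The map from the free module on a finite set. -/
noncomputable def genMap {M : Type u} [AddCommGroup M] [Module A M] (S : Finset M) :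
    (↥S →₀ A) →ₗ[A] M := Finsupp.linearCombination A (Subtype.val : ↥S → M)

theorem range_genMap {M : Type u} [AddCommGroup M] [Module A M] (S : Finset M) :
    LinearMap.range (genMap (A := A) S) = Submodule.span A (S : Set M) := by
  rw [genMap, Finsupp.range_linearCombination]
  congr 1
  exact Subtype.range_coe

/-- One stage of the resolution. -/
structure Stg (k : ℕ) where
  /-- the term -/
  F : ModuleCat.{u} A
  /-- the map to the complex -/
  f : F →ₗ[A] K.X k
  /-- the cycles -/
  Z : Submodule A F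
  free : Module.Finite A F ∧ Module.Free A F

/-- Boundaries in degree `0`. -/
abbrev B₀ : Submodule A (K.X 0) := LinearMap.range (K.d 1 0).hom

/-- The first stage. -/
noncomputable def stg0 : Stg K 0 where
  F := ModuleCat.of A (↥(gens ⊤ (B₀ K)) →₀ A)
  f := genMap (gens ⊤ (B₀ K))
  Z := ⊤
  free := ⟨inferInstanceAs (Module.Finite A (_ →₀ A)), inferInstanceAs (Module.Free A (_ →₀ A))⟩

variable {K} in
/-- The pairs to be generated. -/
noncomputable def Stg.P {k : ℕ} (s : Stg K k) : Submodule A (s.F × K.X (k + 1)) :=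
  s.Z.prod ⊤ ⊓ LinearMap.ker
    (s.f ∘ₗ LinearMap.fst A s.F (K.X (k + 1)) - (K.d (k + 1) k).hom ∘ₗ LinearMap.snd A s.F (K.X (k + 1)))

variable {K} in
/-- The boundaries among the pairs. -/
noncomputable def Stg.B {k : ℕ} (s : Stg K k) : Submodule A (s.F × K.X (k + 1)) :=
  LinearMap.range (LinearMap.inr A s.F (K.X (k + 1)) ∘ₗ (K.d (k + 2) (k + 1)).hom)

variable {K} in
theorem Stg.mem_P {k : ℕ} (s : Stg K k) {p : s.F × K.X (k + 1)} :
    p ∈ s.P ↔ p.1 ∈ s.Z ∧ s.f p.1 = K.d (k + 1) k p.2 := by
  simp [Stg.P, sub_eq_zero]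

variable {K} in
/-- The generating map of the next stage. -/
noncomputable def Stg.g {k : ℕ} (s : Stg K k) : (↥(gens s.P s.B) →₀ A) →ₗ[A] s.F × K.X (k + 1) :=
  genMap _

variable {K} in
theorem Stg.g_mem {k : ℕ} (s : Stg K k) (a : ↥(gens s.P s.B) →₀ A) : s.g a ∈ s.P :=
  have h : Submodule.span A (gens s.P s.B : Set (s.F × K.X (k + 1))) ≤ s.P :=
    Submodule.span_le.2 (gens_subset s.P s.B)
  h (range_genMap (A := A) (gens s.P s.B) ▸ LinearMap.mem_range_self s.g a)

variable {K} in
/-- The next stage. -/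
noncomputable def Stg.next {k : ℕ} (s : Stg K k) : Stg K (k + 1) where
  F := ModuleCat.of A (↥(gens s.P s.B) →₀ A)
  f := LinearMap.snd A _ _ ∘ₗ s.g
  Z := LinearMap.ker (LinearMap.fst A _ _ ∘ₗ s.g)
  free := ⟨inferInstanceAs (Module.Finite A (_ →₀ A)), inferInstanceAs (Module.Free A (_ →₀ A))⟩

/-- The stages. -/
noncomputable def stg : (k : ℕ) → Stg K k
  | 0 => stg0 K
  | k + 1 => (stg k).next

/-- The differential. -/
noncomputable def δ (k : ℕ) : (stg K (k + 1)).F ⟶ (stg K k).F :=
  ModuleCat.ofHom (LinearMap.fst A _ _ ∘ₗ (stg K k).g)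

theorem mem_Z_succ {k : ℕ} (e : (stg K (k + 1)).F) : e ∈ (stg K (k + 1)).Z ↔ δ K k e = 0 :=
  Iff.rfl

theorem δ_δ (k : ℕ) : δ K (k + 1) ≫ δ K k = 0 := by
  ext e
  exact ((stg K (k + 1)).mem_P.1 ((stg K (k + 1)).g_mem e)).1

/-- The resolution. -/
noncomputable def res : ChainComplex (ModuleCat.{u} A) ℕ :=
  ChainComplex.of (fun k => (stg K k).F) (δ K) (δ_δ K)

theorem res_d (k : ℕ) : (res K).d (k + 1) k = δ K k := ChainComplex.of_d (fun k => (stg K k).F) (δ K) k

/-- The comparison map. -/
noncomputable def resφ : res K ⟶ K where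
  f k := ModuleCat.ofHom (stg K k).f
  comm' i j hij := by
    obtain rfl : j + 1 = i := hij
    rw [res_d]
    ext e
    exact ((stg K j).mem_P.1 ((stg K j).g_mem e)).2.symm

/-- Generation holds at stage `k`. -/
def Good : ℕ → Prop
  | 0 => ∃ S : Finset (K.X 0), (S : Set (K.X 0)) ⊆ (⊤ : Submodule A (K.X 0)) ∧
      ⊤ ≤ Submodule.span A (S : Set (K.X 0)) ⊔ B₀ K
  | k + 1 => ∃ S : Finset ((stg K k).F × K.X (k + 1)), (S : Set ((stg K k).F × K.X (k + 1))) ⊆ ((stg K k).P : Set _) ∧
      (stg K k).P ≤ Submodule.span A (S : Set ((stg K k).F × K.X (k + 1))) ⊔ (stg K k).B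

theorem surj_zero (h : Good K 0) (x : K.X 0) :
    ∃ (w : (stg K 0).F) (y : K.X 1), (stg K 0).f w + K.d 1 0 y = x := by
  have hx := gens_spec _ _ h (Submodule.mem_top (x := x))
  rw [← range_genMap, Submodule.mem_sup] at hx
  obtain ⟨_, ⟨w, rfl⟩, _, ⟨y, rfl⟩, e⟩ := hx
  exact ⟨w, y, e⟩

theorem surj_succ (k : ℕ) (h : Good K (k + 1)) (x : K.X (k + 1)) (hx : K.d (k + 1) k x = 0) :
    ∃ (w : (stg K (k + 1)).F) (y : K.X (k + 2)), δ K k w = 0 ∧
      (stg K (k + 1)).f w + K.d (k + 2) (k + 1) y = x := by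
  have hP : ((0 : (stg K k).F), x) ∈ (stg K k).P :=
    (stg K k).mem_P.2 ⟨zero_mem _, by rw [map_zero]; exact hx.symm⟩
  have hx' := gens_spec _ _ h hP
  rw [← range_genMap, Submodule.mem_sup] at hx'
  obtain ⟨_, ⟨w, rfl⟩, _, ⟨y, rfl⟩, e⟩ := hx'
  have e1 := congrArg Prod.fst e
  have e2 := congrArg Prod.snd e
  simp only [LinearMap.comp_apply, LinearMap.inr_apply, Prod.fst_add, Prod.snd_add, add_zero] at e1 e2
  exact ⟨w, y, e1, e2⟩

theorem inj_stage (k : ℕ) (h : Good K (k + 1)) (w : (stg K k).F) (hw : w ∈ (stg K k).Z)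
    (x : K.X (k + 1)) (hx : (stg K k).f w = K.d (k + 1) k x) :
    ∃ v : (stg K (k + 1)).F, δ K k v = w := by
  have hP : (w, x) ∈ (stg K k).P := (stg K k).mem_P.2 ⟨hw, hx⟩
  have hx' := gens_spec _ _ h hP
  rw [← range_genMap, Submodule.mem_sup] at hx'
  obtain ⟨_, ⟨v, rfl⟩, _, ⟨y, rfl⟩, e⟩ := hx'
  have e1 := congrArg Prod.fst e
  simp only [LinearMap.comp_apply, LinearMap.inr_apply, Prod.fst_add, add_zero] at e1
  exact ⟨v, e1⟩

theorem quasiIso_resφ (h : ∀ k, Good K k) : QuasiIso (resφ K) := by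
  refine ⟨fun j => ?_⟩
  rw [quasiIsoAt_iff_isIso_homologyMap, ConcreteCategory.isIso_iff_bijective]
  rcases j with _ | k
  · refine homologyMap_bijective_of _ (i := 1) (k := 0) (by simp) (by simp) (fun x _ => ?_) ?_
    · obtain ⟨w, y, e⟩ := surj_zero K (h 0) x
      refine ⟨w, y, ?_, e⟩
      rw [(res K).shape 0 0 (by simp)]; rfl
    · intro w y _ hy
      obtain ⟨v, hv⟩ := inj_stage K 0 (h 1) w trivial y hy.symm
      exact ⟨v, (congrArg (fun f : (res K).X 1 ⟶ (res K).X 0 => f v) (res_d K 0)).trans hv⟩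
  · refine homologyMap_bijective_of _ (i := k + 2) (k := k) (by simp) (by simp) (fun x hx => ?_) ?_
    · obtain ⟨w, y, hw, e⟩ := surj_succ K k (h (k + 1)) x hx
      exact ⟨w, y, (congrArg (fun f : (res K).X (k + 1) ⟶ (res K).X k => f w) (res_d K k)).trans hw, e⟩
    · intro w y hw hy
      rw [res_d] at hw
      obtain ⟨v, hv⟩ := inj_stage K (k + 1) (h (k + 2)) w hw y hy.symm
      exact ⟨v, (congrArg (fun f : (res K).X (k + 2) ⟶ (res K).X (k + 1) => f v) (res_d K (k + 1))).trans hv⟩

end Construction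

/-- A cochain complex concentrated in degrees `≤ 0` is the extension of its restriction. -/
theorem isIso_liftExtend_id (L : DRing.Cx A) [L.IsStrictlyLE 0] :
    ∃ (ι : L ⟶ (L.restriction embeddingDownNat).extend embeddingDownNat), IsIso ι ∧
      ∀ k : ℕ, ι.f (-(k : ℤ)) =
        ((L.restriction embeddingDownNat).extendXIso embeddingDownNat
          (rfl : embeddingDownNat.f k = -(k : ℤ))).inv := by
  have hl : embeddingDownNat.HasLift (𝟙 (L.restriction embeddingDownNat)) := by
    intro j hj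
    exfalso
    apply hj.2 (j + 1)
    simp
  refine ⟨embeddingDownNat.liftExtend _ hl, ?_, fun k => ?_⟩
  · have : ∀ i, IsIso ((embeddingDownNat.liftExtend _ hl).f i) := by
      intro i
      by_cases hi : i ≤ 0
      · rw [ComplexShape.Embedding.isIso_liftExtend_f_iff _ _ hl (i := (-i).toNat)
          (show embeddingDownNat.f (-i).toNat = i by simp; omega)]
        exact inferInstanceAs (IsIso (𝟙 ((L.restriction embeddingDownNat).X (-i).toNat)))
      · refine ⟨0, (L.isZero_of_isStrictlyLE 0 i (by omega)).eq_of_src _ _,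
          (HomologicalComplex.isZero_extend_X _ _ _ fun k => ?_).eq_of_src _ _⟩
        simp; omega
    exact HomologicalComplex.Hom.isIso_of_components _
  · refine (ComplexShape.Embedding.liftExtend_f _ _ hl
      (show embeddingDownNat.f k = -(k : ℤ) from rfl)).trans ?_
    simp [HomologicalComplex.restrictionXIso]
    rfl

theorem exists_resolution_aux (L : DRing.Cx A) [L.IsStrictlyLE 0]
    (hL : ∀ m, DRing.IsPseudoCoherent A m (DRing.toD L)) :
    ∃ E : DRing.Cx A, DRing.VanishesAbove E 0 ∧ DRing.TermwiseFiniteFree E ∧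
      Nonempty (DRing.toD E ≅ DRing.toD L) := by
  obtain ⟨ι, hι, hιf⟩ := isIso_liftExtend_id L
  let K := L.restriction embeddingDownNat
  let E := (res K).extend embeddingDownNat
  let Φ : E ⟶ L := HomologicalComplex.extendMap (resφ K) embeddingDownNat ≫ inv ι
  let ρ : ∀ k : ℕ, E.X (-(k : ℤ)) ≅ (stg K k).F := fun k =>
    (res K).extendXIso embeddingDownNat (rfl : embeddingDownNat.f k = -(k : ℤ))
  have hΦ : ∀ (k : ℕ) (e : E.X (-(k : ℤ))), Φ.f (-(k : ℤ)) e = (stg K k).f ((ρ k).hom e) := by
    intro k e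
    have h1 : Φ ≫ ι = HomologicalComplex.extendMap (resφ K) embeddingDownNat := by simp [Φ]
    have h2 := HomologicalComplex.congr_hom h1 (-(k : ℤ))
    have h3 := HomologicalComplex.extendMap_f (resφ K) embeddingDownNat
      (show embeddingDownNat.f k = -(k : ℤ) from rfl)
    rw [HomologicalComplex.comp_f, hιf, h3, ← Category.assoc] at h2
    exact congrArg (fun f : E.X (-(k : ℤ)) ⟶ L.X (-(k : ℤ)) => f e)
      ((cancel_mono (K.extendXIso embeddingDownNat
        (rfl : embeddingDownNat.f k = -(k : ℤ))).inv).1 h2)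
  have hd : ∀ (k : ℕ) (e : E.X (-((k + 1 : ℕ) : ℤ))),
      (ρ k).hom (E.d _ (-(k : ℤ)) e) = δ K k ((ρ (k + 1)).hom e) := by
    intro k e
    have h : E.d _ (-(k : ℤ)) ≫ (ρ k).hom = (ρ (k + 1)).hom ≫ δ K k := by
      rw [← res_d K k, ← Iso.eq_comp_inv, Category.assoc]
      exact (res K).extend_d_eq embeddingDownNat (rfl : embeddingDownNat.f (k + 1) = _)
        (rfl : embeddingDownNat.f k = _)
    exact congrArg (fun f : E.X (-((k + 1 : ℕ) : ℤ)) ⟶ (stg K k).F => f e) h
  have hEpos : ∀ i : ℤ, 0 < i → IsZero (E.X i) := fun i hi =>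
    HomologicalComplex.isZero_extend_X _ _ _ fun k => by simp; omega
  have hLpos : ∀ i : ℤ, 0 < i → IsZero (L.X i) := fun i hi => L.isZero_of_isStrictlyLE 0 i hi
  have hfree : DRing.TermwiseFiniteFree E := by
    intro i
    by_cases hi : i ≤ 0
    · obtain ⟨k, rfl⟩ : ∃ k : ℕ, -(k : ℤ) = i := ⟨(-i).toNat, by omega⟩
      exact modClass_finiteFree.equiv (ρ k).toLinearEquiv.symm (stg K k).free
    · have : Subsingleton (E.X i) := ModuleCat.subsingleton_of_isZero (hEpos i (by omega))
      exact @ModClass.subsingleton _ _ _ modClass_finiteFree _ _ _ this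
  have hG : ∀ k, Good K k := by
    intro k
    induction k using Nat.strong_induction_on with
    | _ k ih =>
    match k with
    | 0 =>
      have : (DRing.toD L).IsLE 0 := inferInstanceAs ((DerivedCategory.Q.obj L).IsLE 0)
      have := finite_top (hL 0)
      have : Module.Finite A ((DerivedCategory.Q ⋙
          DerivedCategory.homologyFunctor (ModuleCat.{u} A) 0).obj L) := finite_top (hL 0)
      have : Module.Finite A (L.homology 0) := Module.Finite.equiv
        ((DerivedCategory.homologyFunctorFactors (ModuleCat.{u} A) 0).app L).toLinearEquiv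
      obtain ⟨T, hT⟩ := Module.Finite.fg_top (R := A) (M := L.homology 0)
      classical
      choose z hz using homologyπ_surjective L (0 : ℤ)
      refine ⟨T.image fun t => (L.iCycles 0 (z t) : L.X (-((0 : ℕ) : ℤ))), fun _ _ => trivial,
        fun x _ => ?_⟩
      obtain ⟨c, rfl⟩ : ∃ c, L.iCycles (0 : ℤ) c = (x : L.X 0) :=
        exists_cycle (K := L) (j := (0 : ℤ)) (k := 1) (by simp) x
          ((ModuleCat.subsingleton_of_isZero (hLpos 1 one_pos)).elim _ _)
      have key : ∀ η, ∃ c', L.homologyπ 0 c' = η ∧ L.iCycles 0 c' ∈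
          Submodule.span A ((T.image fun t => L.iCycles 0 (z t) : Finset _) : Set (L.X 0)) := by
        intro η
        have hη : η ∈ Submodule.span A (T : Set (L.homology 0)) := hT ▸ trivial
        induction hη using Submodule.span_induction with
        | mem t ht => exact ⟨z t, hz t, Submodule.subset_span (Finset.mem_image_of_mem _ ht)⟩
        | zero => exact ⟨0, map_zero _, by rw [map_zero]; exact zero_mem _⟩
        | add a b _ _ ha hb =>
          obtain ⟨c₁, h₁, h₁'⟩ := ha
          obtain ⟨c₂, h₂, h₂'⟩ := hb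
          exact ⟨c₁ + c₂, by rw [map_add, h₁, h₂], by rw [map_add]; exact add_mem h₁' h₂'⟩
        | smul a t _ ha =>
          obtain ⟨c₁, h₁, h₁'⟩ := ha
          exact ⟨a • c₁, by rw [map_smul, h₁], by rw [map_smul]; exact Submodule.smul_mem _ a h₁'⟩
      obtain ⟨c', hc', hmem⟩ := key (L.homologyπ 0 c)
      obtain ⟨y, hy⟩ := (homologyπ_eq_zero_iff (i := -((1 : ℕ) : ℤ)) (by simp) (c - c')).1
        (by rw [map_sub, hc', sub_self])
      refine Submodule.mem_sup.2 ⟨_, hmem, _, ⟨y, rfl⟩, ?_⟩
      change L.iCycles (0 : ℤ) c' + L.d _ (0 : ℤ) y = L.iCycles (0 : ℤ) c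
      rw [hy, map_sub, add_sub_cancel]
    | k + 1 =>
      let S := sigmaGE E (-(k : ℤ))
      let φ : S ⟶ L := subι E _ _ ≫ Φ
      have lift : ∀ i, -(k : ℤ) ≤ i → ∀ e : E.X i,
          ∃ s : S.X i, (subι E _ (geSub_stable E (-(k : ℤ)))).f i s = e := by
        intro i hi e
        exact ⟨(sigmaGEXEquiv E _ i hi).symm e, (sigmaGEXEquiv E _ i hi).apply_symm_apply e⟩
      have sd : ∀ i j (s : S.X i), (subι E _ (geSub_stable E (-(k : ℤ)))).f j (S.d i j s) =
          E.d i j ((subι E _ (geSub_stable E (-(k : ℤ)))).f i s) := fun i j s =>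
        (congrArg (fun f : S.X i ⟶ E.X j => f s)
          ((subι E _ (geSub_stable E (-(k : ℤ)))).comm i j)).symm
      have sinj : ∀ i, Function.Injective ((subι E _ (geSub_stable E (-(k : ℤ)))).f i) :=
        fun i => Submodule.injective_subtype _
      -- surjectivity in degrees `≥ -k`
      have hsurj : ∀ i : ℤ, -(k : ℤ) ≤ i →
          Function.Surjective (HomologicalComplex.homologyMap φ i) := by
        intro i hi
        refine homologyMap_surjective φ (i := i - 1) (k := i + 1) (by simp) (by simp) fun x hx => ?_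
        by_cases hi0 : 0 < i
        · exact ⟨0, 0, map_zero _, (ModuleCat.subsingleton_of_isZero (hLpos i hi0)).elim _ _⟩
        obtain ⟨j, rfl⟩ : ∃ j : ℕ, -(j : ℤ) = i := ⟨(-i).toNat, by omega⟩
        rcases j with _ | j
        · obtain ⟨w, y, e⟩ := surj_zero K (ih 0 (by omega)) x
          obtain ⟨s, hs⟩ := lift _ hi ((ρ 0).inv w)
          refine ⟨s, (L.XIsoOfEq (show (-((1 : ℕ) : ℤ)) = -((0 : ℕ) : ℤ) - 1 by simp)).hom y, ?_, ?_⟩
          · apply sinj
            exact ((ModuleCat.subsingleton_of_isZero (hEpos _ (by simp))).elim _ _)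
          · change Φ.f _ ((subι E _ (geSub_stable E (-(k : ℤ)))).f _ s) + _ = x
            rw [hs, hΦ, ← ModuleCat.comp_apply _ (ρ 0).hom, Iso.inv_hom_id,
              ← ModuleCat.comp_apply, HomologicalComplex.XIsoOfEq_hom_comp_d]
            exact e
        · have hx' : K.d (j + 1) j x = 0 := by
            have := hx
            rwa [show -((j + 1 : ℕ) : ℤ) + 1 = -(j : ℤ) by push_cast; ring] at this
          obtain ⟨w, y, hw, e⟩ := surj_succ K j (ih (j + 1) (by omega)) x hx'
          obtain ⟨s, hs⟩ := lift _ hi ((ρ (j + 1)).inv w)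
          refine ⟨s, (L.XIsoOfEq (show (-((j + 2 : ℕ) : ℤ)) = -((j + 1 : ℕ) : ℤ) - 1 by
            push_cast; ring)).hom y, ?_, ?_⟩
          · rw [show -((j + 1 : ℕ) : ℤ) + 1 = -(j : ℤ) by push_cast; ring]
            apply sinj
            apply (ρ j).toLinearEquiv.injective
            change (ρ j).hom _ = (ρ j).hom _
            rw [sd, hs, hd, map_zero, ← ModuleCat.comp_apply _ (ρ (j + 1)).hom, Iso.inv_hom_id,
              map_zero]
            exact hw
          · change Φ.f _ ((subι E _ (geSub_stable E (-(k : ℤ)))).f _ s) + _ = x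
            rw [hs, hΦ, ← ModuleCat.comp_apply _ (ρ (j + 1)).hom, Iso.inv_hom_id,
              ← ModuleCat.comp_apply, HomologicalComplex.XIsoOfEq_hom_comp_d]
            exact e
      have hinj : ∀ i : ℤ, -(k : ℤ) < i →
          Function.Injective (HomologicalComplex.homologyMap φ i) := by
        intro i hi
        refine homologyMap_injective φ (i := i - 1) (k := i + 1) (by simp) (by simp)
          fun w y hw hy => ?_
        by_cases hi0 : 0 < i
        · refine ⟨0, sinj i ?_⟩
          exact (ModuleCat.subsingleton_of_isZero (hEpos i hi0)).elim _ _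
        obtain ⟨j, rfl⟩ : ∃ j : ℕ, -(j : ℤ) = i := ⟨(-i).toNat, by omega⟩
        have hZ : (ρ j).hom ((subι E _ (geSub_stable E (-(k : ℤ)))).f _ w) ∈ (stg K j).Z := by
          rcases j with _ | j
          · trivial
          · rw [show -((j + 1 : ℕ) : ℤ) + 1 = -(j : ℤ) by push_cast; ring] at hw
            rw [mem_Z_succ, ← hd, ← sd, hw, map_zero, map_zero]
        have hy' : (stg K j).f ((ρ j).hom ((subι E _ (geSub_stable E (-(k : ℤ)))).f _ w)) =
            K.d (j + 1) j ((L.XIsoOfEq (show -(j : ℤ) - 1 = -((j + 1 : ℕ) : ℤ) by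
              push_cast; ring)).hom y) := by
          rw [← hΦ]
          refine hy.symm.trans ?_
          change _ = L.d (-((j + 1 : ℕ) : ℤ)) (-(j : ℤ)) _
          rw [← ModuleCat.comp_apply, HomologicalComplex.XIsoOfEq_hom_comp_d]
        obtain ⟨v, hv⟩ := inj_stage K j (ih (j + 1) (by omega)) _ hZ _ hy'
        have hj : (-((j + 1 : ℕ) : ℤ)) = -(j : ℤ) - 1 := by push_cast; ring
        obtain ⟨s, hs⟩ := lift (-(j : ℤ) - 1) (by omega) ((E.XIsoOfEq hj).hom ((ρ (j + 1)).inv v))
        refine ⟨s, sinj _ ((ρ j).toLinearEquiv.injective ?_)⟩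
        change (ρ j).hom _ = (ρ j).hom _
        rw [sd, hs, ← ModuleCat.comp_apply (E.XIsoOfEq hj).hom, HomologicalComplex.XIsoOfEq_hom_comp_d,
          hd, ← ModuleCat.comp_apply _ (ρ (j + 1)).hom, Iso.inv_hom_id]
        exact hv
      have hS : DRing.VanishesOutside S (-(k : ℤ)) 0 := by
        intro i hi
        rcases hi with hi | hi
        · exact S.isZero_of_isStrictlyGE (-(k : ℤ)) i hi
        · have := ModuleCat.subsingleton_of_isZero (hEpos i hi)
          exact (isZero_iff_subsingleton _).2 (sinj i).subsingleton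
      obtain ⟨g, h, hT⟩ := exists_cone_triangle φ
      have hle : (DRing.toD (CochainComplex.mappingCone φ)).IsLE (-((k + 1 : ℕ) : ℤ)) := by
        have := (cone_isLE_iff _ hT (-(k : ℤ))).2 ⟨fun i hi => ?_, ?_⟩
        · rwa [show -(k : ℤ) - 1 = -((k + 1 : ℕ) : ℤ) by push_cast; ring] at this
        · rw [ConcreteCategory.isIso_iff_bijective]
          exact (HH_bijective_iff φ i).2 ⟨hinj i hi, hsurj i (by omega)⟩
        · have he : (HH (-(k : ℤ))).map (DerivedCategory.Q.map φ) =
              (((DerivedCategory.homologyFunctorFactors (ModuleCat.{u} A) _).app S).hom ≫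
                HomologicalComplex.homologyMap φ _) ≫
              ((DerivedCategory.homologyFunctorFactors (ModuleCat.{u} A) _).app L).inv :=
            ((DerivedCategory.homologyFunctorFactors (ModuleCat.{u} A) _).app L).eq_comp_inv.2
              ((DerivedCategory.homologyFunctorFactors (ModuleCat.{u} A) _).hom.naturality φ)
          have := (ModuleCat.epi_iff_surjective _).2 (hsurj _ le_rfl)
          exact he.symm ▸ epi_comp' (epi_comp' inferInstance this) inferInstance
      have hpc : DRing.IsPseudoCoherent A (-((k + 1 : ℕ) : ℤ))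
          (DRing.toD (CochainComplex.mappingCone φ)) :=
        pc_triangle₃ _ hT (pc_toD hS (fun i => sigmaGE_mem modClass_finiteFree hfree _ i) _) (hL _)
      have := finite_top hpc
      have : Module.Finite A ((DerivedCategory.Q ⋙
          DerivedCategory.homologyFunctor (ModuleCat.{u} A) (-((k + 1 : ℕ) : ℤ))).obj
            (CochainComplex.mappingCone φ)) := finite_top hpc
      have : Module.Finite A ((CochainComplex.mappingCone φ).homology (-((k + 1 : ℕ) : ℤ))) :=
        Module.Finite.equiv ((DerivedCategory.homologyFunctorFactors (ModuleCat.{u} A) _).app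
          (CochainComplex.mappingCone φ)).toLinearEquiv
      have hq : -((k + 1 : ℕ) : ℤ) + 1 = -(k : ℤ) := by push_cast; ring
      obtain ⟨T, hT1, hT2⟩ := exists_finset_cone φ (-((k + 2 : ℕ) : ℤ)) (-((k + 1 : ℕ) : ℤ))
        (-(k : ℤ)) (-(k : ℤ) + 1) (by push_cast; ring) hq rfl
        (S.isZero_of_isStrictlyGE (-(k : ℤ)) _ (by omega))
      let τ : S.X (-(k : ℤ)) × L.X (-((k + 1 : ℕ) : ℤ)) →ₗ[A] (stg K k).F × K.X (k + 1) :=
        (((ρ k).hom.hom ∘ₗ ((subι E _ (geSub_stable E (-(k : ℤ)))).f (-(k : ℤ))).hom).prodMap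
          (-LinearMap.id))
      classical
      refine ⟨T.image τ, fun p hp => ?_, fun p hp => ?_⟩
      · obtain ⟨s, hs, rfl⟩ := Finset.mem_image.1 (Finset.mem_coe.1 hp)
        obtain ⟨h1, h2⟩ := hT1 s hs
        refine ((stg K k).mem_P).2 ⟨?_, ?_⟩
        · rcases k with _ | k
          · trivial
          · rw [show -((k + 1 : ℕ) : ℤ) + 1 = -(k : ℤ) by push_cast; ring] at h1
            change (ρ (k + 1)).hom ((subι E _ (geSub_stable E (-((k + 1 : ℕ) : ℤ)))).f _ s.1) ∈ _
            rw [mem_Z_succ, ← hd, ← sd, h1, map_zero, map_zero]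
        · have e := eq_neg_of_add_eq_zero_left h2
          change Φ.f _ _ = _ at e
          rw [hΦ] at e
          refine e.trans ?_
          change -(L.d _ _ s.2) = L.d _ _ (-s.2)
          rw [map_neg]
      · obtain ⟨hp1, hp2⟩ := ((stg K k).mem_P).1 hp
        obtain ⟨s, hs⟩ := lift (-(k : ℤ)) le_rfl ((ρ k).inv p.1)
        have hs' : (ρ k).hom ((subι E _ (geSub_stable E (-(k : ℤ)))).f _ s) = p.1 := by
          rw [hs, ← ModuleCat.comp_apply _ (ρ k).hom, Iso.inv_hom_id]; rfl
        have hds : S.d (-(k : ℤ)) (-(k : ℤ) + 1) s = 0 := by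
          apply sinj
          rcases k with _ | k
          · exact (ModuleCat.subsingleton_of_isZero (hEpos _ (by simp))).elim _ _
          · rw [show -((k + 1 : ℕ) : ℤ) + 1 = -(k : ℤ) by push_cast; ring]
            apply (ρ k).toLinearEquiv.injective
            change (ρ k).hom _ = (ρ k).hom _
            rw [sd, hd, hs', map_zero, map_zero]
            exact hp1
        have hsum : φ.f (-(k : ℤ)) s + L.d (-((k + 1 : ℕ) : ℤ)) (-(k : ℤ)) (-p.2) = 0 := by
          change Φ.f _ _ + _ = 0
          erw [hΦ, hs', hp2, map_neg]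
          exact add_neg_cancel _
        have hmem := Submodule.mem_map_of_mem (f := τ) (hT2 s (-p.2) hds hsum)
        rw [Submodule.map_sup, Submodule.map_span, ← Finset.coe_image] at hmem
        have hτ : τ (s, -p.2) = p := Prod.ext hs' (neg_neg p.2)
        rw [hτ] at hmem
        refine SetLike.le_def.1 (sup_le_sup le_rfl ?_) hmem
        rintro _ ⟨_, ⟨y, rfl⟩, rfl⟩
        refine ⟨-y, Prod.ext ?_ ?_⟩
        · exact ((map_zero (ρ k).hom.hom).symm.trans (congrArg _ (map_zero _).symm))
        · change L.d _ _ (-y) = -(L.d _ _ y)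
          rw [map_neg]
  have := quasiIso_resφ K hG
  have : QuasiIso (HomologicalComplex.extendMap (resφ K) embeddingDownNat) :=
    (HomologicalComplex.quasiIso_extendMap_iff _ _).2 this
  have : QuasiIso Φ := inferInstance
  have : IsIso (DerivedCategory.Q.map Φ) :=
    (DerivedCategory.isIso_Q_map_iff_quasiIso (C := ModuleCat.{u} A) Φ).2 this
  exact ⟨E, fun i hi => hEpos i hi, hfree, ⟨asIso (DerivedCategory.Q.map Φ)⟩⟩

theorem pc_sigma {E : DRing.Cx A} {b : ℤ} (hb : DRing.VanishesAbove E b)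
    (hF : DRing.TermwiseFiniteFree E) (m : ℤ) : DRing.IsPseudoCoherent A m (DRing.toD E) := by
  obtain ⟨h, hT⟩ := exists_sub_triangle E (geSub E m) (geSub_stable E m)
  have hle : (DRing.toD (sigmaLT E m)).IsLE (m - 1) := by
    have := isStrictlyLE_sigmaLT E m (m - 1) (by omega)
    exact (inferInstance : (DerivedCategory.Q.obj (sigmaLT E m)).IsLE (m - 1))
  refine (pc_iff m _).2 ⟨sigmaGE E m, b, _, _, _, h, fun i hi => ?_,
    fun i => sigmaGE_mem modClass_finiteFree hF m i, hT, hle⟩
  by_cases hm : m ≤ i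
  · have := ModuleCat.subsingleton_of_isZero (hb i (by omega))
    exact (isZero_iff_subsingleton _).2 (sigmaGEXEquiv E m i hm).toEquiv.subsingleton
  · exact (sigmaGE E m).isZero_of_isStrictlyGE m i (by omega)

/-- Pseudo-coherent = `m`-pseudo-coherent for all `m`. -/
theorem pc'_iff (K : Dual.D A) :
    DRing.IsPseudoCoherent' A K ↔ ∀ m, DRing.IsPseudoCoherent A m K := by
  constructor
  · rintro ⟨E, b, hb, hF, ⟨e⟩⟩ m
    exact pc_of_iso e (pc_sigma hb hF m)
  · intro h
    obtain ⟨b, hb⟩ := pc_bddAbove (h 0)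
    have : (K⟦b⟧).IsLE 0 := (tS A).isLE_shift K b b 0
    obtain ⟨L, hL, ⟨e⟩⟩ := (K⟦b⟧).exists_iso_Q_obj_of_isLE 0
    obtain ⟨E, hE, hF, ⟨e'⟩⟩ := exists_resolution_aux L
      fun m => pc_of_iso e (pc_shift (m := m + b) rfl (h _))
    refine ⟨(shiftFunctor (DRing.Cx A) (-b)).obj E, b, fun i hi => hE (i + -b) (by omega),
      fun i => hF (i + -b), ⟨toDShiftIso E (-b) ≪≫
        (shiftFunctor (Dual.D A) (-b)).mapIso (e' ≪≫ e.symm) ≪≫
        (shiftFunctorCompIsoId (Dual.D A) b (-b) (by omega)).app K⟩⟩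

end Groth.Agent.DMod
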