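import Groth.Agent.Lib.DMod.Basic

/-!
`m`-pseudo-coherent objects of `D(A)`: approximation triangles and permanence properties.
-/

set_option autoImplicit false

universe u

open CategoryTheory CategoryTheory.Limits CategoryTheory.Pretriangulated CategoryTheory.Triangulated

attribute [local instance] HasDerivedCategory.standard

namespace Groth.Agent.DMod

variable {A : Type u} [CommRing A]

theorem exists_iso_of_isLE (K : Dual.D A) (n : ℤ) [K.IsLE n] {X : Dual.D A} (e : K ≅ X) :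
    X.IsLE n := (tS A).isLE_of_iso e n

/-- An approximation of `K` in degrees `≥ m` by finite free modules. -/
def HasApprox (m : ℤ) (K : Dual.D A) : Prop :=
  ∃ (E : DRing.Cx A) (b : ℤ) (C : Dual.D A) (α : DRing.toD E ⟶ K) (g : K ⟶ C)
    (h : C ⟶ (DRing.toD E)⟦(1 : ℤ)⟧),
      DRing.VanishesOutside E m b ∧ DRing.TermwiseFiniteFree E ∧
      Triangle.mk α g h ∈ distTriang _ ∧ C.IsLE (m - 1)

theorem pc_iff (m : ℤ) (K : Dual.D A) : DRing.IsPseudoCoherent A m K ↔ HasApprox m K := by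
  constructor
  · rintro ⟨E, a, b, α, hE, hF, h1, h2⟩
    obtain ⟨h₀, hσ⟩ := exists_sub_triangle E (geSub E m) (geSub_stable E m)
    obtain ⟨C, g, h, hC⟩ := distinguished_cocone_triangle α
    obtain ⟨C', g', h', hC'⟩ := distinguished_cocone_triangle
      (DerivedCategory.Q.map (subι E (geSub E m) (geSub_stable E m)) ≫ α)
    have O := Triangulated.someOctahedron rfl hσ hC hC'
    have hCle : C.IsLE (m - 1) := (cone_isLE_iff _ hC m).2 ⟨h1, h2⟩
    have hσle : (DRing.toD (sigmaLT E m)).IsLE (m - 1) := by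
      have := isStrictlyLE_sigmaLT E m (m - 1) (by omega)
      exact (inferInstance : (DerivedCategory.Q.obj (sigmaLT E m)).IsLE (m - 1))
    refine ⟨sigmaGE E m, b, C', _, g', h', ?_, fun i => sigmaGE_mem modClass_finiteFree hF m i,
      hC', isLE_of_triangle₂ _ O.mem (m - 1) hσle hCle⟩
    intro i hi
    exact vanishesOutside_sigmaGE hE m i (by omega)
  · rintro ⟨E, b, C, α, g, h, hE, hF, hT, hC⟩
    obtain ⟨h1, h2⟩ := (cone_isLE_iff _ hT m).1 hC
    exact ⟨E, m, b, α, hE, hF, h1, h2⟩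

theorem pc_of_iso {m : ℤ} {K L : Dual.D A} (e : K ≅ L) (h : DRing.IsPseudoCoherent A m K) :
    DRing.IsPseudoCoherent A m L := by
  obtain ⟨E, a, b, α, hE, hF, h1, h2⟩ := h
  refine ⟨E, a, b, α ≫ e.hom, hE, hF, fun i hi => ?_, ?_⟩
  · have := h1 i hi
    rw [Functor.map_comp]; infer_instance
  · rw [Functor.map_comp]; infer_instance

theorem pc_mono {m m' : ℤ} (hm : m ≤ m') {K : Dual.D A} (h : DRing.IsPseudoCoherent A m K) :
    DRing.IsPseudoCoherent A m' K := by
  obtain ⟨E, a, b, α, hE, hF, h1, h2⟩ := h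
  refine ⟨E, a, b, α, hE, hF, fun i hi => h1 i (by omega), ?_⟩
  rcases eq_or_lt_of_le hm with rfl | h
  · exact h2
  · have := h1 m' h
    infer_instance

theorem isLE_toD {E : DRing.Cx A} {a b : ℤ} (hE : DRing.VanishesOutside E a b) :
    (DRing.toD E).IsLE b :=
  have := ((vanishesOutside_iff E a b).1 hE).2
  inferInstanceAs ((DerivedCategory.Q.obj E).IsLE b)

theorem isGE_toD {E : DRing.Cx A} {a b : ℤ} (hE : DRing.VanishesOutside E a b) :
    (DRing.toD E).IsGE a :=
  have := ((vanishesOutside_iff E a b).1 hE).1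
  inferInstanceAs ((DerivedCategory.Q.obj E).IsGE a)

theorem pc_bddAbove {m : ℤ} {K : Dual.D A} (h : DRing.IsPseudoCoherent A m K) :
    ∃ b : ℤ, K.IsLE b := by
  obtain ⟨E, b, C, α, g, t, hE, hF, hT, hC⟩ := (pc_iff m K).1 h
  refine ⟨max b (m - 1), isLE_of_triangle₂ _ hT _ ?_ ?_⟩
  · have := isLE_toD hE
    exact (tS A).isLE_of_le (DRing.toD E) b _ (le_max_left _ _)
  · exact (tS A).isLE_of_le C (m - 1) _ (le_max_right _ _)

/-- The zero complex. -/
noncomputable def zeroCx (A : Type u) [CommRing A] : DRing.Cx A :=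
  CochainComplex.of (fun _ => ModuleCat.of A PUnit) (fun _ => 0) (fun _ => zero_comp)

theorem isZero_zeroCx_X (i : ℤ) : IsZero ((zeroCx A).X i) :=
  ModuleCat.isZero_of_subsingleton (ModuleCat.of A PUnit)

theorem pc_of_isLE {m n : ℤ} (hn : n < m) {K : Dual.D A} [K.IsLE n] :
    DRing.IsPseudoCoherent A m K := by
  refine ⟨zeroCx A, m, m, 0, fun i _ => isZero_zeroCx_X i, fun i => ?_, fun i hi => ?_, ?_⟩
  · exact modClass_finiteFree.subsingleton PUnit
  · refine ⟨0, ?_, ?_⟩
    · refine IsZero.eq_of_src (IsZero.of_iso ?_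
        ((DerivedCategory.homologyFunctorFactors (ModuleCat.{u} A) i).app (zeroCx A))) _ _
      exact ((zeroCx A).exactAt_iff_isZero_homology i).1
        (HomologicalComplex.ExactAt.of_isZero (isZero_zeroCx_X i))
    · exact (DerivedCategory.isZero_of_isLE K n i (by omega)).eq_of_src _ _
  · exact ⟨fun p q _ => (DerivedCategory.isZero_of_isLE K n m hn).eq_of_src p q⟩

theorem pc_toD {E : DRing.Cx A} {a b : ℤ} (hE : DRing.VanishesOutside E a b)
    (hF : DRing.TermwiseFiniteFree E) (m : ℤ) : DRing.IsPseudoCoherent A m (DRing.toD E) :=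
  ⟨E, a, b, 𝟙 _, hE, hF, fun i _ => by rw [CategoryTheory.Functor.map_id]; infer_instance,
    by rw [CategoryTheory.Functor.map_id]; infer_instance⟩

theorem pc_shift {m n m' : ℤ} (hm : m' + n = m) {K : Dual.D A}
    (h : DRing.IsPseudoCoherent A m K) : DRing.IsPseudoCoherent A m' (K⟦n⟧) := by
  obtain ⟨E, b, C, α, g, t, hE, hF, hT, hC⟩ := (pc_iff m K).1 h
  have hT' := Triangle.shift_distinguished _ hT n
  have hC' : (C⟦n⟧).IsLE (m' - 1) := (tS A).isLE_shift C (m - 1) n (m' - 1)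
  obtain ⟨h1, h2⟩ := (cone_isLE_iff _ hT' m').1 hC'
  refine ⟨(shiftFunctor (DRing.Cx A) n).obj E, m', b - n,
    (toDShiftIso E n).hom ≫ ((Triangle.shiftFunctor (Dual.D A) n).obj (Triangle.mk α g t)).mor₁,
    vanishesOutside_shift hE n _ _ hm (by omega),
    fun i => hF (i + n),
    fun i hi => ?_, ?_⟩
  · have := h1 i hi
    rw [Functor.map_comp]
    exact IsIso.comp_isIso' inferInstance this
  · rw [Functor.map_comp]
    exact epi_comp' inferInstance h2

theorem pc_shift_iff {m n m' : ℤ} (hm : m' + n = m) (K : Dual.D A) :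
    DRing.IsPseudoCoherent A m' (K⟦n⟧) ↔ DRing.IsPseudoCoherent A m K :=
  ⟨fun h => pc_of_iso ((shiftFunctorCompIsoId (Dual.D A) n (-n) (by omega)).app K)
    (pc_shift (m := m') (n := -n) (m' := m) (by omega) h), pc_shift hm⟩

/-- In a triangle, `K` `(m+1)`- and `L` `m`-pseudo-coherent make the cone `m`-pseudo-coherent. -/
theorem pc_triangle₃ {m : ℤ} (T : Triangle (Dual.D A)) (hT : T ∈ distTriang _)
    (h₁ : DRing.IsPseudoCoherent A (m + 1) T.obj₁) (h₂ : DRing.IsPseudoCoherent A m T.obj₂) :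
    DRing.IsPseudoCoherent A m T.obj₃ := by
  obtain ⟨E, b, CE, α, gE, tE, hE, hEF, hTE, hCE⟩ := (pc_iff _ _).1 h₁
  obtain ⟨F, b', CF, β, gF, tF, hF, hFF, hTF, hCF⟩ := (pc_iff _ _).1 h₂
  have hb := isLE_toD hE
  have : E.IsKProjective :=
    have := ((vanishesOutside_iff E _ b).1 hE).2
    isKProjective b fun i => have := (hEF i).2; inferInstance
  have hz : (α ≫ T.mor₁) ≫ gF = 0 := by
    have := ((vanishesOutside_iff E (m + 1) b).1 hE).1
    exact hom_eq_zero (m + 1) (m - 1) (by omega) _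
  obtain ⟨φ', hφ'⟩ : ∃ φ' : DRing.toD E ⟶ DRing.toD F, α ≫ T.mor₁ = φ' ≫ β :=
    Triangle.coyoneda_exact₂ _ hTF _ hz
  obtain ⟨φ, hφ⟩ := exists_map_eq φ'
  subst hφ
  obtain ⟨gG, hG, hTG⟩ := exists_cone_triangle φ
  obtain ⟨M₁, gM, hM, hTM⟩ := distinguished_cocone_triangle (α ≫ T.mor₁)
  have O₁ := Triangulated.someOctahedron rfl hTE hT hTM
  have hTM' : Triangle.mk (DerivedCategory.Q.map φ ≫ β) gM hM ∈ distTriang _ := hφ' ▸ hTM
  have O₂ := Triangulated.someOctahedron rfl hTG hTF hTM'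
  -- the map `M₁ ⟶ M` has cone `CE⟦1⟧`, the map `G ⟶ M₁` has cone `CF`
  have hCE1 : (CE⟦(1 : ℤ)⟧).IsLE (m - 1) := (tS A).isLE_shift CE (m + 1 - 1) 1 (m - 1)
  obtain ⟨a1, a2⟩ := (cone_isLE_iff _ (rot_of_distTriang _ O₁.mem) m).1 hCE1
  obtain ⟨b1, b2⟩ := (cone_isLE_iff _ O₂.mem m).1 hCF
  refine ⟨CochainComplex.mappingCone φ, m, max b b', O₂.m₁ ≫ O₁.m₃, ?_, fun i => ?_,
    fun i hi => ?_, ?_⟩
  · exact cone_vanishesOutside φ hE hF m _ (by omega) le_rfl (by omega) (le_max_right _ _)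
  · exact cone_mem modClass_finiteFree φ hEF hFF i
  · rw [Functor.map_comp]
    exact IsIso.comp_isIso' (b1 i hi) (a1 i hi)
  · rw [Functor.map_comp]
    exact epi_comp' b2 a2

theorem pc_triangle₂ {m : ℤ} (T : Triangle (Dual.D A)) (hT : T ∈ distTriang _)
    (h₁ : DRing.IsPseudoCoherent A m T.obj₁) (h₃ : DRing.IsPseudoCoherent A m T.obj₃) :
    DRing.IsPseudoCoherent A m T.obj₂ := by
  have := inv_rot_of_distTriang _ hT
  exact pc_triangle₃ _ this ((pc_shift_iff (m' := m + 1) (n := (-1 : ℤ)) (by omega) _).2 h₃) h₁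

theorem pc_triangle₁ {m : ℤ} (T : Triangle (Dual.D A)) (hT : T ∈ distTriang _)
    (h₂ : DRing.IsPseudoCoherent A (m + 1) T.obj₂) (h₃ : DRing.IsPseudoCoherent A m T.obj₃) :
    DRing.IsPseudoCoherent A (m + 1) T.obj₁ := by
  have := rot_of_distTriang _ hT
  exact (pc_shift_iff (n := (1 : ℤ)) (by omega) _).1 (pc_triangle₃ _ this h₂ h₃)

theorem binBiprod_triangle (K L : Dual.D A) [HasBinaryBiproduct K L] :
    binaryBiproductTriangle K L ∈ distTriang _ := binaryBiproductTriangle_distinguished K L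

theorem pc_biprod {m : ℤ} {K L : Dual.D A} [HasBinaryBiproduct K L]
    (hK : DRing.IsPseudoCoherent A m K) (hL : DRing.IsPseudoCoherent A m L) :
    DRing.IsPseudoCoherent A m (K ⊞ L) :=
  pc_triangle₂ _ (binBiprod_triangle K L) hK hL

theorem pc_right_of_biprod {m : ℤ} {K L : Dual.D A} [HasBinaryBiproduct K L]
    (h : DRing.IsPseudoCoherent A m (K ⊞ L)) : DRing.IsPseudoCoherent A m L := by
  -- the endomorphism `p = fst ≫ inl` of `S := K ⊞ L` has cone `L ⊞ L⟦1⟧`
  obtain ⟨C, g, t, hT⟩ := distinguished_cocone_triangle ((biprod.fst : K ⊞ L ⟶ K) ≫ (biprod.inl : K ⟶ K ⊞ L))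
  have hC : DRing.IsPseudoCoherent A m C := pc_triangle₃ _ hT (pc_mono (by omega) h) h
  -- octahedron for `S → K → S`: cone(fst) = L⟦1⟧, cone(inl) = L
  have : HasBinaryBiproduct L K := inferInstance
  have hb₀ : Triangle.mk (biprod.inr : L ⟶ K ⊞ L) (biprod.fst : K ⊞ L ⟶ K) (0 : K ⟶ L⟦(1 : ℤ)⟧) ∈
      distTriang _ :=
    isomorphic_distinguished _ (binBiprod_triangle L K) _
      (Triangle.isoMk _ _ (Iso.refl L) (biprod.braiding K L) (Iso.refl K)
        (by
          change (biprod.inr : L ⟶ K ⊞ L) ≫ biprod.lift biprod.snd biprod.fst = 𝟙 L ≫ biprod.inl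
          rw [Category.id_comp]
          apply biprod.hom_ext <;>
            rw [Category.assoc] <;> simp only [biprod.lift_fst, biprod.lift_snd, biprod.inr_snd,
              biprod.inr_fst, biprod.inl_fst, biprod.inl_snd])
        ((Category.comp_id _).trans (biprod.lift_snd _ _).symm)
        (zero_comp.trans comp_zero.symm))
  have O := Triangulated.someOctahedron rfl (rot_of_distTriang _ hb₀) (binBiprod_triangle K L) hT
  have key : ∀ n : ℤ, DRing.IsPseudoCoherent A (n - 1) (L⟦(1 : ℤ)⟧) → m ≤ n - 2 →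
      DRing.IsPseudoCoherent A (n - 2) L := fun n hn hmn =>
    pc_triangle₃ _ O.mem (pc_mono (by omega) hn) (pc_mono hmn hC)
  obtain ⟨b, hb⟩ := pc_bddAbove h
  have : L.IsLE b := by
    rw [isLE_iff] at hb ⊢
    intro i hi
    have := hb i hi
    have : Mono ((HH i).map (biprod.inr : L ⟶ K ⊞ L)) := inferInstance
    exact ((ModuleCat.mono_iff_injective _).1 this).subsingleton
  have main : ∀ (j : ℕ), DRing.IsPseudoCoherent A (max m (b + 1 - j)) L := by
    intro j
    induction j with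
    | zero => exact pc_mono (le_max_right m _) (pc_of_isLE (m := b + 1 - (0 : ℕ)) (n := b) (by simp))
    | succ j ih =>
      by_cases hj : b + 1 - (j : ℤ) ≤ m
      · exact pc_mono (by omega) ih
      · have h1 : DRing.IsPseudoCoherent A ((b + 1 - j + 1) - 1 - 1) (L⟦(1 : ℤ)⟧) :=
          pc_shift (m := max m (b + 1 - j)) (by omega) ih
        have := key (b + 1 - j + 1) (pc_mono (by omega) h1) (by omega)
        exact pc_mono (by omega) this
  have := main (b + 1 - m).toNat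
  rwa [max_eq_left (by omega)] at this

theorem pc_left_of_biprod {m : ℤ} {K L : Dual.D A} [HasBinaryBiproduct K L] [HasBinaryBiproduct L K]
    (h : DRing.IsPseudoCoherent A m (K ⊞ L)) : DRing.IsPseudoCoherent A m K :=
  pc_right_of_biprod (pc_of_iso (biprod.braiding K L) h)

end Groth.Agent.DMod
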