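import Groth.Agent.Lib.DMod.Amplitude
import Mathlib.Algebra.Homology.HomotopyCategory.KInjective
import Mathlib.Algebra.Homology.DerivedCategory.DerivabilityStructureInjectives
import Mathlib.Algebra.Category.ModuleCat.EnoughInjectives

/-! Injective amplitude. -/

set_option autoImplicit false
set_option linter.style.haveILetI false
set_option backward.isDefEq.respectTransparency false

universe u

open CategoryTheory CategoryTheory.Limits CategoryTheory.Pretriangulated CategoryTheory.Triangulated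

attribute [local instance] HasDerivedCategory.standard

namespace Groth.Agent.DMod

variable {A : Type u} [CommRing A]

/-- Maps `N[-n] → K` in `D(A)`. -/
noncomputable def homSingleEquiv (K : Dual.D A) (N : ModuleCat.{u} A) (i : ℤ) :
    ((single 0).obj N ⟶ K⟦i⟧) ≃ ((single i).obj N ⟶ K) :=
  (((shiftEquiv (Dual.D A) i).symm.toAdjunction.homEquiv _ K).symm).trans
    (Iso.homCongr (singleShiftIso' (-i) N ≪≫ eqToIso (by rw [neg_neg])) (Iso.refl K))

theorem map_eq_zero_iff' {S L : DRing.Cx A} [L.IsKInjective] (g : S ⟶ L) :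
    DerivedCategory.Q.map g = 0 ↔ Nonempty (Homotopy g 0) := by
  let e := DerivedCategory.quotientCompQhIso (ModuleCat.{u} A)
  let q := HomotopyCategory.quotient (ModuleCat.{u} A) (ComplexShape.up ℤ)
  have h1 : DerivedCategory.Q.map g = 0 ↔ DerivedCategory.Qh.map (q.map g) = 0 := by
    rw [← NatIso.naturality_1 e g]
    constructor
    · intro h; simpa [cancel_epi, cancel_mono] using h
    · intro h
      change e.inv.app S ≫ DerivedCategory.Qh.map (q.map g) ≫ e.hom.app L = 0
      rw [h]; simp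
  rw [h1]
  constructor
  · intro h
    refine ⟨HomotopyCategory.homotopyOfEq _ _ ?_⟩
    apply (CochainComplex.IsKInjective.Qh_map_bijective _ L).injective
    rw [h, Functor.map_zero, Functor.map_zero]
  · rintro ⟨h⟩
    rw [HomotopyCategory.eq_of_homotopy _ _ h, Functor.map_zero, Functor.map_zero]

theorem exists_map_eq' {S L : DRing.Cx A} [L.IsKInjective] (f : DRing.toD S ⟶ DRing.toD L) :
    ∃ g : S ⟶ L, DerivedCategory.Q.map g = f := by
  let e := DerivedCategory.quotientCompQhIso (ModuleCat.{u} A)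
  obtain ⟨g, hg⟩ := (CochainComplex.IsKInjective.Qh_map_bijective _ L).surjective
    (e.hom.app S ≫ f ≫ e.inv.app L)
  obtain ⟨g, rfl⟩ := (HomotopyCategory.quotient (ModuleCat.{u} A) (ComplexShape.up ℤ)).map_surjective g
  refine ⟨g, ?_⟩
  rw [← cancel_epi (e.hom.app S), ← cancel_mono (e.inv.app L), Category.assoc]
  refine Eq.trans ?_ (hg.trans (Category.assoc _ _ _).symm)
  have := e.hom.naturality g
  rw [← Category.assoc, ← this, Category.assoc, Iso.hom_inv_id_app, Category.comp_id]
  rfl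

theorem isKInjective_of_isStrictlyGE {E : DRing.Cx A} (a : ℤ) [E.IsStrictlyGE a]
    (hE : ∀ i, Module.Injective A (E.X i)) : E.IsKInjective :=
  have : ∀ i, Injective (E.X i) := fun i =>
    (Module.injective_iff_injective_object A (E.X i)).1 (hE i)
  CochainComplex.isKInjective_of_injective E a

/-- No maps from a single object to a K-injective complex vanishing in that degree. -/
theorem subsingleton_single_hom {E : DRing.Cx A} [E.IsKInjective] {n : ℤ} (h : IsZero (E.X n))
    (M : ModuleCat.{u} A) : Subsingleton ((single n).obj M ⟶ DRing.toD E) := by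
  let e := (DerivedCategory.singleFunctorIsoCompQ (ModuleCat.{u} A) n).app M
  refine ⟨fun f g => ?_⟩
  rw [← sub_eq_zero, ← cancel_epi e.inv, comp_zero]
  obtain ⟨φ, hφ⟩ := exists_map_eq' (L := E) (e.inv ≫ (f - g))
  have h0 : φ = 0 := by
    ext1 i
    by_cases hi : i = n
    · subst hi; exact h.eq_of_tgt _ _
    · exact (isZero_single_X hi M).eq_of_src _ _
  exact hφ.symm.trans ((congrArg _ h0).trans (DerivedCategory.Q.map_zero _ _))

/-- A cocycle of a complex as a map from a single object. -/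
noncomputable def ofCocycle (C : DRing.Cx A) {n : ℤ} {M : ModuleCat.{u} A} (φ : M ⟶ C.X n)
    (hφ : φ ≫ C.d n (n + 1) = 0) :
    (HomologicalComplex.single (ModuleCat.{u} A) (ComplexShape.up ℤ) n).obj M ⟶ C :=
  HomologicalComplex.mkHomFromSingle φ (fun k hk => by obtain rfl : n + 1 = k := hk; exact hφ)

theorem exists_bound_of_homotopy {C : DRing.Cx A} {n : ℤ} {M : ModuleCat.{u} A} {φ : M ⟶ C.X n}
    {hφ : φ ≫ C.d n (n + 1) = 0} (H : Homotopy (ofCocycle C φ hφ) 0) {m : ℤ} (hm : m + 1 = n) :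
    ∃ y : M ⟶ C.X m, y ≫ C.d m n = φ := by
  have hc := H.comm n
  rw [dNext_eq H.hom (show (ComplexShape.up ℤ).Rel n (n + 1) from rfl),
    prevD_eq H.hom (show (ComplexShape.up ℤ).Rel m n from hm),
    HomologicalComplex.single_obj_d, zero_comp, zero_add, HomologicalComplex.zero_f, add_zero] at hc
  refine ⟨(HomologicalComplex.singleObjXSelf (ComplexShape.up ℤ) n M).inv ≫ H.hom n m, ?_⟩
  rw [Category.assoc, ← hc, ofCocycle, HomologicalComplex.mkHomFromSingle_f, Iso.inv_hom_id_assoc]

theorem subsingleton_HD_of_hom_single {K : Dual.D A} {n : ℤ}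
    (h : Subsingleton ((single n).obj (ModuleCat.of A A) ⟶ K)) : Subsingleton (Dual.HD A K n) := by
  let C := DerivedCategory.Q.objPreimage K
  let e : DRing.toD C ≅ K := DerivedCategory.Q.objObjPreimageIso K
  suffices Subsingleton (Dual.HD A (DRing.toD C) n) from
    ((HH n).mapIso e).toLinearEquiv.toEquiv.subsingleton_congr.1 this
  rw [subsingleton_HD_toD_iff, subsingleton_homology_iff C (i := n - 1) (k := n + 1) (by simp) (by simp)]
  intro x hx
  let M := ModuleCat.of A A
  let φ : M ⟶ C.X n := ModuleCat.ofHom (LinearMap.toSpanSingleton A _ x)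
  have hφ : φ ≫ C.d n (n + 1) = 0 := by
    ext
    show C.d n (n + 1) ((1 : A) • x) = 0
    rw [one_smul]
    exact hx
  let S : CochainComplex (ModuleCat.{u} A) ℤ :=
    (HomologicalComplex.single (ModuleCat.{u} A) (ComplexShape.up ℤ) n).obj M
  haveI : S.IsKProjective := by
    haveI : S.IsStrictlyLE n := (CochainComplex.isStrictlyLE_iff _ _).2 fun i hi => isZero_single_X hi.ne' M
    refine isKProjective n fun i => ?_
    by_cases hi : i = n
    · subst hi
      exact Module.Projective.of_equiv (HomologicalComplex.singleObjXSelf (ComplexShape.up ℤ) i M).toLinearEquiv.symm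
    · have := ModuleCat.subsingleton_of_isZero (isZero_single_X hi M)
      exact modClass_projective.subsingleton _
  let e' := (DerivedCategory.singleFunctorIsoCompQ (ModuleCat.{u} A) n).app M
  have h0 : DerivedCategory.Q.map (ofCocycle C φ hφ) = 0 := by
    refine (cancel_epi e'.hom).1 ((cancel_mono e.hom).1 ?_)
    exact h.elim _ _
  obtain ⟨H⟩ := (map_eq_zero_iff (P := S) _).1 h0
  obtain ⟨y, hy⟩ := exists_bound_of_homotopy H (sub_add_cancel n 1)
  refine ⟨y (1 : A), ?_⟩
  rw [← ModuleCat.comp_apply, hy]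
  exact one_smul A x

/-- Injective amplitude from the vanishing of Ext out of cyclic modules. -/
theorem exists_injAmp {K : Dual.D A} (a b : ℤ)
    (h : ∀ (I : Ideal A) (i : ℤ), (i < a ∨ b < i) →
      Subsingleton ((single i).obj (ModuleCat.of A (A ⧸ I)) ⟶ K)) :
    DRing.HasInjAmplitudeIn A a b K := by
  have hH : ∀ i, (i < a ∨ b < i) → Subsingleton (Dual.HD A K i) := fun i hi => by
    have := h ⊥ i hi
    let ε := (single (A := A) i).mapIso
      ((AlgEquiv.quotientBot A A).toLinearEquiv.toModuleIso (X₁ := A ⧸ (⊥ : Ideal A)) (X₂ := A))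
    exact subsingleton_HD_of_hom_single ((Iso.homCongr ε (Iso.refl K)).subsingleton_congr.1 this)
  haveI : K.IsGE a := (isGE_iff K a).2 fun i hi => hH i (Or.inl hi)
  obtain ⟨L, hL, ⟨e⟩⟩ := DerivedCategory.exists_iso_Q_obj_of_isGE K a
  obtain ⟨J, ι, hι, hJ, hJa⟩ := CochainComplex.Plus.modelCategoryQuillen.exists_quasiIso_injective L a
  haveI : IsIso (DerivedCategory.Q.map ι) :=
    (DerivedCategory.isIso_Q_map_iff_quasiIso (C := ModuleCat.{u} A) ι).2 hι
  let eJ : DRing.toD J ≅ K := (asIso (DerivedCategory.Q.map ι)).symm ≪≫ e.symm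
  haveI : J.IsKInjective := CochainComplex.isKInjective_of_injective J a
  haveI : (DRing.toD J).IsLE b := (isLE_iff _ b).2 fun i hi =>
    ((HH i).mapIso eJ).toLinearEquiv.toEquiv.subsingleton_congr.2 (hH i (Or.inr hi))
  obtain ⟨et⟩ := exists_truncTo_iso J b
  refine ⟨truncTo J b, vanishesOutside_truncTo J b a, fun i => ?_, ⟨et ≪≫ eJ⟩⟩
  have hJ' : ∀ j, Module.Injective A (J.X j) := fun j =>
    (Module.injective_iff_injective_object A (J.X j)).2 (hJ j)
  rcases lt_trichotomy i b with hi | rfl | hi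
  · exact (Module.Baer.of_equiv (truncToXEquiv J hi).symm
      (Module.Baer.of_injective (hJ' i))).injective
  · refine (Module.Baer.of_equiv (truncToTopEquiv J i).symm ?_).injective
    intro I g
    obtain ⟨g₁, hg₁⟩ := Module.Baer.of_injective (hJ' i) I (Submodule.subtype _ ∘ₗ g)
    let φ : ModuleCat.of A (A ⧸ I) ⟶ J.X (i + 1) := ModuleCat.ofHom
      (Submodule.liftQ I ((J.d i (i + 1)).hom ∘ₗ g₁) fun x hx => by
        show J.d i (i + 1) (g₁ x) = 0
        rw [hg₁ x hx]
        exact (g ⟨x, hx⟩).2)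
    have hφ : φ ≫ J.d (i + 1) (i + 1 + 1) = 0 := by
      ext
      show (J.d i (i + 1) ≫ J.d (i + 1) (i + 1 + 1)) (g₁ _) = 0
      rw [J.d_comp_d]
      rfl
    let e' := (DerivedCategory.singleFunctorIsoCompQ (ModuleCat.{u} A) (i + 1)).app
      (ModuleCat.of A (A ⧸ I))
    have h0 : DerivedCategory.Q.map (ofCocycle J φ hφ) = 0 := by
      refine (cancel_epi e'.hom).1 ((cancel_mono eJ.hom).1 ?_)
      exact (h I (i + 1) (Or.inr (by omega))).elim _ _
    obtain ⟨H⟩ := (map_eq_zero_iff' _).1 h0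
    obtain ⟨y, hy⟩ := exists_bound_of_homotopy (m := i) H rfl
    let g₂ : A →ₗ[A] J.X i := g₁ - y.hom ∘ₗ (Submodule.mkQ I)
    have hd : ∀ x, J.d i (i + 1) (g₂ x) = 0 := fun x => by
      show J.d i (i + 1) (g₁ x - y (Submodule.Quotient.mk x)) = 0
      rw [map_sub, ← ModuleCat.comp_apply y, hy, sub_eq_zero]
      rfl
    refine ⟨LinearMap.codRestrict _ g₂ hd, fun x hx => Subtype.ext ?_⟩
    show g₁ x - y (Submodule.Quotient.mk x) = _
    rw [(Submodule.Quotient.mk_eq_zero I).2 hx, map_zero, sub_zero]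
    exact hg₁ x hx
  · have := ModuleCat.subsingleton_of_isZero (isZero_truncTo_X J hi)
    exact Module.Baer.injective fun I g => ⟨0, fun x hx => Subsingleton.elim _ _⟩

end Groth.Agent.DMod

namespace Groth.Agent.DMod

variable {A : Type u} [CommRing A]

theorem subsingleton_of_injAmp {K : Dual.D A} {a b : ℤ} (h : DRing.HasInjAmplitudeIn A a b K)
    (N : ModuleCat.{u} A) (i : ℤ) (hi : i < a ∨ b < i) : Subsingleton ((single i).obj N ⟶ K) := by
  obtain ⟨E, hE, hinj, ⟨e⟩⟩ := h
  haveI := ((vanishesOutside_iff E a b).1 hE).1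
  haveI := isKInjective_of_isStrictlyGE a hinj
  haveI := subsingleton_single_hom (E := E) (hE i hi) N
  exact (Iso.homCongr (Iso.refl _) e).symm.subsingleton

theorem injDim_triangle₂ (T : Triangle (Dual.D A)) (hT : T ∈ distTriang _)
    (h₁ : DRing.HasFiniteInjDim A T.obj₁) (h₃ : DRing.HasFiniteInjDim A T.obj₃) :
    DRing.HasFiniteInjDim A T.obj₂ := by
  obtain ⟨a, b, h₁⟩ := h₁
  obtain ⟨c, d, h₃⟩ := h₃
  refine ⟨min a c, max b d, exists_injAmp _ _ fun I i hi => ⟨fun f g => sub_eq_zero.1 ?_⟩⟩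
  have hi₁ : i < a ∨ b < i := hi.imp (fun h => by omega) fun h => by omega
  have hi₃ : i < c ∨ d < i := hi.imp (fun h => by omega) fun h => by omega
  obtain ⟨x, hx⟩ := Triangle.coyoneda_exact₂ T hT (f - g)
    ((subsingleton_of_injAmp h₃ _ i hi₃).elim _ _)
  rw [hx, (subsingleton_of_injAmp h₁ _ i hi₁).elim x 0, zero_comp]

theorem injDim_single (n : ℤ) (M : ModuleCat.{u} A)
    (h : DRing.HasFiniteInjDim A ((single 0).obj M)) :
    DRing.HasFiniteInjDim A ((single n).obj M) := by
  obtain ⟨a, b, h⟩ := h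
  refine ⟨a + n, b + n, exists_injAmp _ _ fun I i hi => ?_⟩
  let N := ModuleCat.of A (A ⧸ I)
  have h0 : Subsingleton ((single (i - n)).obj N ⟶ (single 0).obj M) :=
    subsingleton_of_injAmp h N (i - n) (hi.imp (fun h => by omega) fun h => by omega)
  have h1 : Subsingleton ((single 0).obj N ⟶ ((single 0).obj M)⟦i - n⟧) :=
    (homSingleEquiv _ N (i - n)).subsingleton
  have h2 : Subsingleton ((single 0).obj N ⟶ ((single 0).obj M)⟦-n⟧⟦i⟧) :=
    (Iso.homCongr (Iso.refl _)
      ((shiftFunctorAdd' (Dual.D A) (-n) i (i - n) (by omega)).app _).symm).subsingleton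
  have h3 : Subsingleton ((single i).obj N ⟶ ((single 0).obj M)⟦-n⟧) :=
    (homSingleEquiv _ N i).symm.subsingleton
  exact (Iso.homCongr (Iso.refl _) (singleShiftIso n M)).symm.subsingleton

theorem injDim_of_iso {K L : Dual.D A} (e : K ≅ L) (h : DRing.HasFiniteInjDim A K) :
    DRing.HasFiniteInjDim A L := by
  obtain ⟨a, b, E, hE, hinj, ⟨e'⟩⟩ := h
  exact ⟨a, b, E, hE, hinj, ⟨e' ≪≫ e⟩⟩

theorem injDim_of_isZero (K : Dual.D A) (h : IsZero K) : DRing.HasFiniteInjDim A K :=
  ⟨0, 0, exists_injAmp 0 0 fun _ _ _ => ⟨fun _ _ => h.eq_of_tgt _ _⟩⟩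

end Groth.Agent.DMod
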