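import Groth.Agent.Lib.DMod.Finite
import Groth.Agent.Lib.DMod.TruncGE
import Mathlib.RingTheory.Flat.Equalizer

/-!
Resolving classes of modules; transferring terms along quasi-isomorphisms of bounded complexes.
-/

set_option autoImplicit false

universe u

open CategoryTheory CategoryTheory.Limits CategoryTheory.Pretriangulated CategoryTheory.Triangulated
open TensorProduct

attribute [local instance] HasDerivedCategory.standard

namespace Groth.Agent.DMod

variable {A : Type u} [CommRing A]

section Modules

variable {X Y Z : Type u} [AddCommGroup X] [Module A X] [AddCommGroup Y] [Module A Y]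
  [AddCommGroup Z] [Module A Z] {i : X →ₗ[A] Y} {q : Y →ₗ[A] Z}

theorem rTensor_injective_of_flat (hi : Function.Injective i) (hex : Function.Exact i q)
    (hq : Function.Surjective q) [Module.Flat A Z] (N : Type u) [AddCommGroup N] [Module A N] :
    Function.Injective (i.rTensor N) := by
  have h := LinearMap.lTensor_injective_of_exact_of_flat q hq i hi hex N
  have : ⇑(i.rTensor N) = (TensorProduct.comm A N Y) ∘ (i.lTensor N) ∘ (TensorProduct.comm A X N) := by
    have h' : i.rTensor N = (TensorProduct.comm A N Y).toLinearMap ∘ₗ i.lTensor N ∘ₗ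
        (TensorProduct.comm A X N).toLinearMap := TensorProduct.ext' fun x n => by simp
    funext z
    exact LinearMap.congr_fun h' z
  rw [this]
  exact (LinearEquiv.injective _).comp (h.comp (LinearEquiv.injective _))

/-- Kernels of surjections of flat modules are flat. -/
theorem flat_left_of_exact (hi : Function.Injective i) (hex : Function.Exact i q)
    (hq : Function.Surjective q) (hY : Module.Flat A Y) (hZ : Module.Flat A Z) :
    Module.Flat A X := by
  rw [Module.Flat.iff_lTensor_preserves_injective_linearMap]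
  intro N N' _ _ _ _ f hf
  have h := (Module.Flat.lTensor_preserves_injective_linearMap (M := Y) f hf).comp
    (rTensor_injective_of_flat hi hex hq N)
  rw [← LinearMap.coe_comp, LinearMap.lTensor_comp_rTensor, ← LinearMap.rTensor_comp_lTensor,
    LinearMap.coe_comp] at h
  exact Function.Injective.of_comp h

/-- Extensions of flat modules are flat. -/
theorem flat_mid_of_exact (hi : Function.Injective i) (hex : Function.Exact i q)
    (hq : Function.Surjective q) (hX : Module.Flat A X) (hZ : Module.Flat A Z) :
    Module.Flat A Y := by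
  rw [Module.Flat.iff_lTensor_preserves_injective_linearMap]
  intro N N' _ _ _ _ f hf
  rw [injective_iff_map_eq_zero]
  intro y hy
  have hqy : q.rTensor N y = 0 := by
    apply Module.Flat.lTensor_preserves_injective_linearMap (M := Z) f hf
    rw [map_zero, ← LinearMap.comp_apply, LinearMap.lTensor_comp_rTensor,
      ← LinearMap.rTensor_comp_lTensor, LinearMap.comp_apply, hy, map_zero]
  obtain ⟨x, rfl⟩ := (rTensor_exact N hex hq y).1 hqy
  rw [← LinearMap.comp_apply, LinearMap.lTensor_comp_rTensor, ← LinearMap.rTensor_comp_lTensor,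
    LinearMap.comp_apply] at hy
  have h0 : f.lTensor X x = 0 := rTensor_injective_of_flat hi hex hq N' (hy.trans (map_zero _).symm)
  rw [(injective_iff_map_eq_zero _).1
    (Module.Flat.lTensor_preserves_injective_linearMap (M := X) f hf) x h0, map_zero]

/-- A short exact sequence ending in a projective module splits. -/
theorem exists_equiv_prod (hi : Function.Injective i) (hex : Function.Exact i q)
    (hq : Function.Surjective q) [Module.Projective A Z] :
    ∃ e : Y ≃ₗ[A] X × Z, (∀ x, e (i x) = (x, 0)) ∧ ∀ y, (e y).2 = q y := by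
  obtain ⟨s, hs⟩ := Module.projective_lifting_property q LinearMap.id hq
  have hsq : ∀ z, q (s z) = z := LinearMap.congr_fun hs
  let e : (X × Z) ≃ₗ[A] Y := LinearEquiv.ofBijective (i.coprod s) ⟨(injective_iff_map_eq_zero _).2
    fun p hp => by
      change i p.1 + s p.2 = 0 at hp
      have h2 := congrArg q hp
      rw [map_add, hsq, hex.apply_apply_eq_zero, zero_add, map_zero] at h2
      rw [h2, map_zero, add_zero] at hp
      exact Prod.ext ((_root_.map_eq_zero_iff i hi).1 hp) h2,
    fun y => by
      obtain ⟨x, hx⟩ := (hex (y - s (q y))).1 (by rw [map_sub, hsq, sub_self])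
      exact ⟨(x, q y), by change i x + s (q y) = y; rw [hx, sub_add_cancel]⟩⟩
  refine ⟨e.symm, fun x => (LinearEquiv.symm_apply_eq _).2 ?_, fun y => ?_⟩
  · change i x = i x + s 0
    rw [map_zero, add_zero]
  · conv_rhs => rw [← e.apply_symm_apply y]
    change _ = q (i (e.symm y).1 + s (e.symm y).2)
    rw [map_add, hsq, hex.apply_apply_eq_zero, zero_add]

end Modules

/-- Classes of modules closed under extensions, kernels of surjections and summands. -/
structure ResClass (p : ∀ (M : Type u) [AddCommGroup M] [Module A M], Prop) : Prop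
    extends ModClass p where
  mid : ∀ {X Y Z : Type u} [AddCommGroup X] [Module A X] [AddCommGroup Y] [Module A Y]
    [AddCommGroup Z] [Module A Z] (i : X →ₗ[A] Y) (q : Y →ₗ[A] Z),
    Function.Injective i → Function.Exact i q → Function.Surjective q → p X → p Z → p Y
  left : ∀ {X Y Z : Type u} [AddCommGroup X] [Module A X] [AddCommGroup Y] [Module A Y]
    [AddCommGroup Z] [Module A Z] (i : X →ₗ[A] Y) (q : Y →ₗ[A] Z),
    Function.Injective i → Function.Exact i q → Function.Surjective q → p Y → p Z → p X
  summand : ∀ {X Y : Type u} [AddCommGroup X] [Module A X] [AddCommGroup Y] [Module A Y]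
    (i : X →ₗ[A] Y) (r : Y →ₗ[A] X), r ∘ₗ i = LinearMap.id → p Y → p X

theorem resClass_projective : ResClass (A := A) (fun M _ _ => Module.Projective A M) where
  toModClass := modClass_projective
  mid i q hi hex hq hX hZ := by
    have := hX; have := hZ
    obtain ⟨e, -, -⟩ := exists_equiv_prod hi hex hq
    exact Module.Projective.of_equiv e.symm
  left i q hi hex hq hY hZ := by
    have := hY; have := hZ
    obtain ⟨e, he, -⟩ := exists_equiv_prod hi hex hq
    exact Module.Projective.of_split i (LinearMap.fst A _ _ ∘ₗ e.toLinearMap)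
      (LinearMap.ext fun x => congrArg Prod.fst (he x))
  summand i r h hY := have := hY; Module.Projective.of_split i r h

theorem resClass_finiteProjective :
    ResClass (A := A) (fun M _ _ => Module.Finite A M ∧ Module.Projective A M) where
  toModClass := modClass_finiteProjective
  mid i q hi hex hq hX hZ := by
    have := hX.1; have := hX.2; have := hZ.1; have := hZ.2
    obtain ⟨e, -, -⟩ := exists_equiv_prod hi hex hq
    exact ⟨Module.Finite.equiv e.symm, Module.Projective.of_equiv e.symm⟩
  left i q hi hex hq hY hZ := by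
    have := hY.1; have := hY.2; have := hZ.2
    obtain ⟨e, he, -⟩ := exists_equiv_prod hi hex hq
    exact ⟨Module.Finite.of_surjective (LinearMap.fst A _ _ ∘ₗ e.toLinearMap)
        (Prod.fst_surjective.comp e.surjective),
      Module.Projective.of_split i (LinearMap.fst A _ _ ∘ₗ e.toLinearMap)
        (LinearMap.ext fun x => congrArg Prod.fst (he x))⟩
  summand i r h hY := have := hY.1; have := hY.2
    ⟨Module.Finite.of_surjective r fun x => ⟨i x, LinearMap.congr_fun h x⟩,
      Module.Projective.of_split i r h⟩

theorem resClass_flat : ResClass (A := A) (fun M _ _ => Module.Flat A M) where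
  toModClass := modClass_flat
  mid _ _ hi hex hq hX hZ := flat_mid_of_exact hi hex hq hX hZ
  left _ _ hi hex hq hY hZ := flat_left_of_exact hi hex hq hY hZ
  summand i r h hY := have := hY; Module.Flat.of_retract i r h

section Complexes

variable {p : ∀ (M : Type u) [AddCommGroup M] [Module A M], Prop}

/-- The differential onto the cycles one degree up, when exact there. -/
noncomputable def toCycles (C : DRing.Cx A) (i : ℤ) :
    C.X i →ₗ[A] ↥(LinearMap.ker (C.d (i + 1) (i + 1 + 1)).hom) :=
  (C.d i (i + 1)).hom.codRestrict _ fun x =>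
    congrArg (fun f : C.X i ⟶ C.X (i + 1 + 1) => f x) (C.d_comp_d i (i + 1) (i + 1 + 1))

theorem toCycles_surjective (C : DRing.Cx A) (i : ℤ) (h : Subsingleton (C.homology (i + 1))) :
    Function.Surjective (toCycles C i) := fun z => by
  obtain ⟨y, hy⟩ := (subsingleton_homology_iff C (i := i) (k := i + 1 + 1) (by simp) (by simp)).1 h
    z.1 z.2
  exact ⟨y, Subtype.ext hy⟩

theorem ker_toCycles (C : DRing.Cx A) (i : ℤ) :
    LinearMap.ker (toCycles C i) = LinearMap.ker (C.d i (i + 1)).hom :=
  LinearMap.ker_codRestrict _ _ _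

theorem exact_toCycles (C : DRing.Cx A) (i : ℤ) :
    Function.Exact (LinearMap.ker (C.d i (i + 1)).hom).subtype (toCycles C i) := by
  rw [LinearMap.exact_iff, Submodule.range_subtype, ker_toCycles]

/-- Cycles of a bounded above complex exact above `m` with terms in a resolving class. -/
theorem cycles_mem (hp : ResClass p) {C : DRing.Cx A} (m b : ℤ) [C.IsStrictlyLE b]
    (hC : ∀ i, m ≤ i → p (C.X i)) (hex : ∀ i, m < i → Subsingleton (C.homology i)) :
    ∀ i, m ≤ i → p ↥(LinearMap.ker (C.d i (i + 1)).hom) := by
  suffices h : ∀ (n : ℕ) i, m ≤ i → b < i + n → p ↥(LinearMap.ker (C.d i (i + 1)).hom) from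
    fun i hi => h (b + 1 - i).toNat i hi (by omega)
  intro n
  induction n with
  | zero =>
    intro i _ hib
    have : Subsingleton (C.X i) :=
      ModuleCat.subsingleton_of_isZero (C.isZero_of_isStrictlyLE b i (by simpa using hib))
    exact hp.subsingleton _
  | succ n ih =>
    intro i hi hib
    exact hp.left _ _ (Submodule.injective_subtype _) (exact_toCycles C i)
      (toCycles_surjective C i (hex (i + 1) (by omega))) (hC i hi) (ih (i + 1) (by omega) (by omega))

theorem subsingleton_cone_homology {F G : DRing.Cx A} (φ : F ⟶ G)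
    [IsIso (DerivedCategory.Q.map φ)] (i : ℤ) :
    Subsingleton ((CochainComplex.mappingCone φ).homology i) := by
  obtain ⟨g, h, hT⟩ := exists_cone_triangle φ
  rw [← subsingleton_HD_toD_iff]
  have hz : IsZero (DRing.toD (CochainComplex.mappingCone φ)) :=
    Triangle.isZero₃_of_isIso₁ _ hT ‹IsIso (DerivedCategory.Q.map φ)›
  exact (isZero_iff_subsingleton _).1 ((HH i).map_isZero hz)

/-- The source term at the bottom of a quasi-isomorphism. -/
theorem bottom_source_mem (hp : ResClass p) {F G : DRing.Cx A} (φ : F ⟶ G)
    [IsIso (DerivedCategory.Q.map φ)] (a b : ℤ) [F.IsStrictlyLE b] [G.IsStrictlyLE b]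
    [F.IsStrictlyGE a] [G.IsStrictlyGE a] (hF : ∀ i, a < i → p (F.X i)) (hG : ∀ i, p (G.X i)) :
    p (F.X a) := by
  let C := CochainComplex.mappingCone φ
  have : C.IsStrictlyLE b := cone_isStrictlyLE φ b b b (by omega) le_rfl
  have hCX : ∀ i, a ≤ i → p (C.X i) := fun i hi =>
    hp.equiv (coneXEquiv φ i).symm (hp.prod (hF (i + 1) (by omega)) (hG i))
  have hex := fun i => subsingleton_cone_homology φ i
  obtain ⟨a, rfl⟩ : ∃ c, c + 1 = a := ⟨a - 1, by omega⟩
  have hZ := cycles_mem hp (a + 1) b hCX (fun i _ => hex i) (a + 1) le_rfl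
  have h0 : Subsingleton (C.X (a - 1)) := by
    have h1 := ModuleCat.subsingleton_of_isZero
      (F.isZero_of_isStrictlyGE (a + 1) (a - 1 + 1) (by omega))
    have h2 := ModuleCat.subsingleton_of_isZero (G.isZero_of_isStrictlyGE (a + 1) (a - 1) (by omega))
    exact (coneXEquiv φ (a - 1)).toEquiv.subsingleton
  have hbij : Function.Bijective (toCycles C a) := by
    refine ⟨(injective_iff_map_eq_zero _).2 fun x hx => ?_, toCycles_surjective C a (hex _)⟩
    obtain ⟨y, rfl⟩ := (subsingleton_homology_iff C (i := a - 1) (k := a + 1) (by simp) (by simp)).1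
      (hex a) x (congrArg Subtype.val hx)
    rw [Subsingleton.elim y 0, map_zero]
  have : Subsingleton (G.X a) :=
    ModuleCat.subsingleton_of_isZero (G.isZero_of_isStrictlyGE (a + 1) a (by omega))
  refine hp.summand (X := F.X (a + 1))
    ((coneXEquiv φ a).symm.toLinearMap ∘ₗ LinearMap.inl A _ _)
    (LinearMap.fst A _ _ ∘ₗ (coneXEquiv φ a).toLinearMap) (LinearMap.ext fun x => ?_)
    (hp.equiv (LinearEquiv.ofBijective (toCycles C a) hbij).symm hZ)
  exact congrArg Prod.fst ((coneXEquiv φ a).apply_symm_apply _)

/-- The target term at the bottom of a quasi-isomorphism. -/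
theorem bottom_target_mem (hp : ResClass p) {F G : DRing.Cx A} (φ : F ⟶ G)
    [IsIso (DerivedCategory.Q.map φ)] (a b : ℤ) [F.IsStrictlyLE b] [G.IsStrictlyLE b]
    [F.IsStrictlyGE a] [G.IsStrictlyGE a] (hF : ∀ i, p (F.X i)) (hG : ∀ i, a < i → p (G.X i)) :
    p (G.X a) := by
  let C := CochainComplex.mappingCone φ
  have : C.IsStrictlyLE b := cone_isStrictlyLE φ b b b (by omega) le_rfl
  have hCX : ∀ i, a + 1 ≤ i → p (C.X i) := fun i hi =>
    hp.equiv (coneXEquiv φ i).symm (hp.prod (hF (i + 1)) (hG i (by omega)))
  have hex := fun i => subsingleton_cone_homology φ i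
  have hZ := cycles_mem hp (a + 1) b hCX (fun i _ => hex i) (a + 1) le_rfl
  obtain ⟨a, rfl⟩ : ∃ c, c + 1 = a := ⟨a - 1, by omega⟩
  have h0 : Subsingleton (C.X (a - 1)) := by
    have h1 := ModuleCat.subsingleton_of_isZero
      (F.isZero_of_isStrictlyGE (a + 1) (a - 1 + 1) (by omega))
    have h2 := ModuleCat.subsingleton_of_isZero (G.isZero_of_isStrictlyGE (a + 1) (a - 1) (by omega))
    exact (coneXEquiv φ (a - 1)).toEquiv.subsingleton
  have : Subsingleton (G.X a) :=
    ModuleCat.subsingleton_of_isZero (G.isZero_of_isStrictlyGE (a + 1) a (by omega))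
  have hinj : Function.Injective (C.d a (a + 1)) := by
    refine (injective_iff_map_eq_zero _).2 fun x hx => ?_
    obtain ⟨y, rfl⟩ := (subsingleton_homology_iff C (i := a - 1) (k := a + 1) (by simp) (by simp)).1
      (hex a) x hx
    rw [Subsingleton.elim y 0, map_zero]
  have hCa : p (C.X a) := hp.equiv (coneXEquiv φ a).symm (hp.prod (hF (a + 1)) (hp.subsingleton _))
  have hexact : Function.Exact (C.d a (a + 1)).hom (toCycles C (a + 1)) := by
    intro x
    constructor
    · intro hx
      exact (subsingleton_homology_iff C (i := a) (k := a + 1 + 1) (by simp) (by simp)).1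
        (hex (a + 1)) x (congrArg Subtype.val hx)
    · rintro ⟨y, rfl⟩
      exact Subtype.ext
        (congrArg (fun f : C.X a ⟶ C.X (a + 1 + 1) => f y) (C.d_comp_d a (a + 1) (a + 1 + 1)))
  have hmid := hp.mid _ _ hinj hexact (toCycles_surjective C (a + 1) (hex _)) hCa
    (cycles_mem hp (a + 1 + 1) b hCX (fun i _ => hex i) (a + 1 + 1) le_rfl)
  refine hp.summand (X := G.X (a + 1))
    ((coneXEquiv φ (a + 1)).symm.toLinearMap ∘ₗ LinearMap.inr A _ _)
    (LinearMap.snd A _ _ ∘ₗ (coneXEquiv φ (a + 1)).toLinearMap) (LinearMap.ext fun x => ?_) hmid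
  exact congrArg Prod.snd ((coneXEquiv φ (a + 1)).apply_symm_apply _)

end Complexes

end Groth.Agent.DMod
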