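import Groth.Agent.Lib.DMod.Basic

/-!
Morphisms from complexes `≤ 0` with projective top term into complexes `≥ -1`.
-/

set_option autoImplicit false

universe u

open CategoryTheory CategoryTheory.Limits CategoryTheory.Pretriangulated CategoryTheory.Triangulated

attribute [local instance] HasDerivedCategory.standard

namespace Groth.Agent.DMod

variable {A : Type u} [CommRing A]

theorem exists_factor {X Y N : Type u} [AddCommGroup X] [Module A X] [AddCommGroup Y] [Module A Y]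
    [AddCommGroup N] [Module A N] (ρ : X →ₗ[A] Y) (hρ : Function.Surjective ρ) (l : X →ₗ[A] N)
    (h : ∀ x, ρ x = 0 → l x = 0) : ∃ γ : Y →ₗ[A] N, ∀ x, γ (ρ x) = l x := by
  refine ⟨(LinearMap.ker ρ).liftQ l (fun x hx => h x hx) ∘ₗ
    (ρ.quotKerEquivOfSurjective hρ).symm.toLinearMap, fun x => ?_⟩
  have : (ρ.quotKerEquivOfSurjective hρ).symm (ρ x) = Submodule.Quotient.mk x := by
    rw [LinearEquiv.symm_apply_eq]; rfl
  simp only [LinearMap.comp_apply, LinearEquiv.coe_coe, this, Submodule.liftQ_apply]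

theorem exists_boundary_of_homologyMap_injective {ι : Type} {c : ComplexShape ι}
    {K L : HomologicalComplex (ModuleCat.{u} A) c} (f : K ⟶ L) {i j k : ι} (hi : c.prev j = i)
    (hk : c.next j = k) (hf : Function.Injective (HomologicalComplex.homologyMap f j))
    (w : K.X j) (hw : K.d j k w = 0) (y : L.X i) (hy : L.d i j y = f.f j w) :
    ∃ v, K.d i j v = w := by
  obtain ⟨z, rfl⟩ := exists_cycle hk w hw
  rw [← homologyπ_eq_zero_iff hi]
  apply hf
  rw [map_zero, homologyMap_π, homologyπ_eq_zero_iff hi]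
  exact ⟨y, hy.trans (iCycles_cyclesMap f j z).symm⟩

theorem comm_apply {K L : DRing.Cx A} (f : K ⟶ L) (i j : ℤ) (x : K.X i) :
    L.d i j (f.f i x) = f.f j (K.d i j x) := by
  rw [← ModuleCat.comp_apply, f.comm, ModuleCat.comp_apply]

theorem d_d_apply (K : DRing.Cx A) (i j k : ℤ) (x : K.X i) : K.d j k (K.d i j x) = 0 := by
  rw [← ModuleCat.comp_apply, K.d_comp_d]; rfl

variable {M K : DRing.Cx A}

/-- A chain map concentrated in degrees `-1`, `0`. -/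
theorem exists_hom_two (hM : ∀ i : ℤ, 0 < i → IsZero (M.X i))
    (hK : ∀ i : ℤ, i ≤ -2 → IsZero (K.X i)) (a₀ : M.X 0 ⟶ K.X 0) (a₁ : M.X (-1) ⟶ K.X (-1))
    (h₁ : M.d (-2) (-1) ≫ a₁ = 0) (h₀ : a₁ ≫ K.d (-1) 0 = M.d (-1) 0 ≫ a₀)
    (h₂ : a₀ ≫ K.d 0 1 = 0) : ∃ a : M ⟶ K, a.f 0 = a₀ ∧ a.f (-1) = a₁ := by
  let f : ∀ i : ℤ, M.X i ⟶ K.X i := fun i =>
    if h : i = 0 then eqToHom (by rw [h]) ≫ a₀ ≫ eqToHom (by rw [h])
    else if h' : i = -1 then eqToHom (by rw [h']) ≫ a₁ ≫ eqToHom (by rw [h'])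
    else 0
  have f0 : f 0 = a₀ := by simp [f]
  have f1 : f (-1) = a₁ := by simp [f]
  refine ⟨{ f := f, comm' := fun i j hij => ?_ }, f0, f1⟩
  have hij' : i + 1 = j := hij
  by_cases hi : i = -2
  · subst hi
    obtain rfl : j = -1 := by omega
    rw [f1, h₁, (hK (-2) le_rfl).eq_of_tgt (f (-2)) 0, zero_comp]
  by_cases hi1 : i = -1
  · subst hi1
    obtain rfl : j = 0 := by omega
    rw [f1, f0, h₀]
  by_cases hi0 : i = 0
  · subst hi0
    obtain rfl : j = 1 := by omega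
    rw [f0, h₂, (hM 1 (by omega)).eq_of_src (f 1) 0, comp_zero]
  by_cases hp : 0 < i
  · exact (hM i hp).eq_of_src _ _
  · exact (hK j (by omega)).eq_of_tgt _ _

theorem hom_ext_two (hM : ∀ i : ℤ, 0 < i → IsZero (M.X i))
    (hK : ∀ i : ℤ, i ≤ -2 → IsZero (K.X i)) {f g : M ⟶ K} (h₀ : f.f 0 = g.f 0)
    (h₁ : f.f (-1) = g.f (-1)) : f = g := by
  ext1 i
  by_cases hi : i = 0
  · exact hi ▸ h₀
  by_cases hi' : i = -1
  · exact hi' ▸ h₁
  by_cases hp : 0 < i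
  · exact (hM i hp).eq_of_src _ _
  · exact (hK i (by omega)).eq_of_tgt _ _

/-- A homotopy concentrated in degree `0`. -/
theorem homotopy_of_two (hM : ∀ i : ℤ, 0 < i → IsZero (M.X i))
    (hK : ∀ i : ℤ, i ≤ -2 → IsZero (K.X i)) (f : M ⟶ K) (h : M.X 0 ⟶ K.X (-1))
    (h₀ : h ≫ K.d (-1) 0 = f.f 0) (h₁ : M.d (-1) 0 ≫ h = f.f (-1)) :
    Nonempty (Homotopy f 0) := by
  let hom : ∀ i j : ℤ, (ComplexShape.up ℤ).Rel j i → (M.X i ⟶ K.X j) := fun i j _ =>
    if hij : i = 0 ∧ j = -1 then eqToHom (by rw [hij.1]) ≫ h ≫ eqToHom (by rw [hij.2]) else 0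
  have hh : hom 0 (-1) (rfl : (-1 : ℤ) + 1 = 0) = h := by simp [hom]
  have e : f = Homotopy.nullHomotopicMap' hom := by
    refine hom_ext_two hM hK ?_ ?_
    · rw [Homotopy.nullHomotopicMap'_f (show (ComplexShape.up ℤ).Rel (-1) 0 from (rfl : (-1 : ℤ) + 1 = 0))
        (show (ComplexShape.up ℤ).Rel 0 1 from (rfl : (0 : ℤ) + 1 = 1)), hh, h₀,
        (hM 1 (by omega)).eq_of_src (hom 1 0 (rfl : (0 : ℤ) + 1 = 1)) 0, comp_zero, zero_add]
    · rw [Homotopy.nullHomotopicMap'_f (show (ComplexShape.up ℤ).Rel (-2) (-1) from (rfl : (-2 : ℤ) + 1 = -1))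
        (show (ComplexShape.up ℤ).Rel (-1) 0 from (rfl : (-1 : ℤ) + 1 = 0)), hh, h₁,
        (hK (-2) le_rfl).eq_of_tgt (hom (-1) (-2) (rfl : (-2 : ℤ) + 1 = -1)) 0, zero_comp, add_zero]
  exact ⟨(Homotopy.ofEq e).trans (Homotopy.nullHomotopy' hom)⟩

/-- Components of a null homotopy. -/
theorem exists_of_homotopy (hM : ∀ i : ℤ, 0 < i → IsZero (M.X i))
    (hK : ∀ i : ℤ, i ≤ -2 → IsZero (K.X i)) {f : M ⟶ K} (H : Homotopy f 0) :
    ∃ h : M.X 0 ⟶ K.X (-1), h ≫ K.d (-1) 0 = f.f 0 ∧ M.d (-1) 0 ≫ h = f.f (-1) := by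
  refine ⟨H.hom 0 (-1), ?_, ?_⟩
  · have := H.comm 0
    rw [dNext_eq H.hom (show (ComplexShape.up ℤ).Rel 0 1 from (rfl : (0 : ℤ) + 1 = 1)),
      prevD_eq H.hom (show (ComplexShape.up ℤ).Rel (-1) 0 from (rfl : (-1 : ℤ) + 1 = 0)),
      (hM 1 (by omega)).eq_of_src (H.hom 1 0) 0, comp_zero, zero_add, HomologicalComplex.zero_f,
      add_zero] at this
    exact this.symm
  · have := H.comm (-1)
    rw [dNext_eq H.hom (show (ComplexShape.up ℤ).Rel (-1) 0 from (rfl : (-1 : ℤ) + 1 = 0)),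
      prevD_eq H.hom (show (ComplexShape.up ℤ).Rel (-2) (-1) from (rfl : (-2 : ℤ) + 1 = -1)),
      (hK (-2) le_rfl).eq_of_tgt (H.hom (-1) (-2)) 0, zero_comp, add_zero, HomologicalComplex.zero_f,
      add_zero] at this
    exact this.symm

section Resolution

variable {P : DRing.Cx A}

theorem resolution_surjective (hM : ∀ i : ℤ, 0 < i → IsZero (M.X i)) (ψ : P ⟶ M)
    [IsIso (DerivedCategory.Q.map ψ)] (m : M.X 0) :
    ∃ (p : P.X 0) (y : M.X (-1)), ψ.f 0 p + M.d (-1) 0 y = m := by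
  have hb := ((HH_bijective_iff ψ 0).1 ((ConcreteCategory.isIso_iff_bijective _).1 inferInstance)).2
  have := ModuleCat.subsingleton_of_isZero (hM 1 (by omega))
  obtain ⟨p, y, -, hy⟩ := (homologyMap_surjective_iff ψ (i := -1) (k := 1) (by simp) (by simp)).1 hb m
    (Subsingleton.elim _ _)
  exact ⟨p, y, hy⟩

theorem resolution_kernel (hP : ∀ i : ℤ, 0 < i → IsZero (P.X i)) (ψ : P ⟶ M)
    [IsIso (DerivedCategory.Q.map ψ)] (p : P.X 0) (y : M.X (-1))
    (h : ψ.f 0 p + M.d (-1) 0 y = 0) :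
    ∃ (q : P.X (-1)) (w : M.X (-2)),
      P.d (-1) 0 q = p ∧ -(ψ.f (-1) q) + M.d (-2) (-1) w = y := by
  have hb := fun j => (HH_bijective_iff ψ j).1 ((ConcreteCategory.isIso_iff_bijective _).1 inferInstance)
  have := ModuleCat.subsingleton_of_isZero (hP 1 (by omega))
  obtain ⟨q, hq⟩ := exists_boundary_of_homologyMap_injective ψ (i := -1) (k := 1) (by simp) (by simp)
    (hb 0).1 p (Subsingleton.elim _ _) (-y) (by rw [map_neg]; exact (eq_neg_of_add_eq_zero_left h).symm)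
  subst hq
  obtain ⟨z, w, hz, hzw⟩ := (homologyMap_surjective_iff ψ (i := -2) (k := 0) (by simp) (by simp)).1
    (hb (-1)).2 (ψ.f (-1) q + y) (by rw [map_add, comm_apply, h])
  refine ⟨q - z, w, by rw [map_sub, hz, sub_zero], ?_⟩
  rw [map_sub, neg_sub, sub_add_eq_add_sub, hzw, add_sub_cancel_left]

end Resolution

theorem homotopy_of_Q_map_eq_zero (hM : ∀ i : ℤ, 0 < i → IsZero (M.X i))
    (hK : ∀ i : ℤ, i ≤ -2 → IsZero (K.X i)) (a : M ⟶ K) (ha : DerivedCategory.Q.map a = 0) :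
    Nonempty (Homotopy a 0) := by
  have := (vanishesAbove_iff M 0).1 hM
  have : (DRing.toD M).IsLE 0 := inferInstanceAs ((DerivedCategory.Q.obj M).IsLE 0)
  obtain ⟨P, hP, hPf, ⟨e⟩⟩ := exists_free_resolution (DRing.toD M) 0
  have hP0 := (vanishesAbove_iff P 0).2 hP
  have := isKProjective (P := P) 0 (fun i => have := hPf i; inferInstance)
  obtain ⟨ψ, hψ⟩ := exists_map_eq e.hom
  have : IsIso (DerivedCategory.Q.map ψ) := hψ ▸ inferInstance
  obtain ⟨H⟩ := (map_eq_zero_iff (ψ ≫ a)).1 (by rw [Functor.map_comp, ha, comp_zero])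
  obtain ⟨k, hk0, hk1⟩ := exists_of_homotopy hP0 hK H
  replace hk0 : ∀ p, K.d (-1) 0 (k p) = a.f 0 (ψ.f 0 p) := fun p =>
    congrArg (fun φ : P.X 0 ⟶ K.X 0 => φ p) hk0
  replace hk1 : ∀ q, k (P.d (-1) 0 q) = a.f (-1) (ψ.f (-1) q) := fun q =>
    congrArg (fun φ : P.X (-1) ⟶ K.X (-1) => φ q) hk1
  let π : P.X 0 × M.X (-1) →ₗ[A] M.X 0 := (ψ.f 0).hom.coprod (M.d (-1) 0).hom
  have hπ : Function.Surjective π := fun m =>
    have ⟨p, y, h⟩ := resolution_surjective hM ψ m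
    ⟨(p, y), h⟩
  have hK2 := ModuleCat.subsingleton_of_isZero (hK (-2) le_rfl)
  obtain ⟨h, hh⟩ := exists_factor π hπ (k.hom.coprod (a.f (-1)).hom) (by
    rintro ⟨p, y⟩ hpy
    obtain ⟨q, w, rfl, rfl⟩ := resolution_kernel hP0 ψ p y hpy
    change k (P.d (-1) 0 q) + a.f (-1) (-(ψ.f (-1) q) + M.d (-2) (-1) w) = 0
    rw [hk1, map_add, map_neg, ← comm_apply a (-2) (-1) w, Subsingleton.elim (a.f (-2) w) 0, map_zero,
      add_zero, add_neg_cancel])
  refine homotopy_of_two hM hK a (ModuleCat.ofHom h) ?_ ?_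
  · ext m
    obtain ⟨⟨p, y⟩, rfl⟩ := hπ m
    change K.d (-1) 0 (h (π (p, y))) = a.f 0 (ψ.f 0 p + M.d (-1) 0 y)
    rw [hh, map_add, ← comm_apply a (-1) 0 y]
    change K.d (-1) 0 (k p + a.f (-1) y) = _
    rw [map_add, hk0]
  · ext y
    have : M.d (-1) 0 y = π (0, y) := by
      change _ = ψ.f 0 0 + M.d (-1) 0 y
      rw [map_zero, zero_add]
    change h (M.d (-1) 0 y) = a.f (-1) y
    rw [this, hh]
    change k 0 + a.f (-1) y = _
    rw [map_zero, zero_add]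

theorem exists_Q_map_eq (hM : ∀ i : ℤ, 0 < i → IsZero (M.X i))
    (hM0 : Module.Projective A (M.X 0)) (hK : ∀ i : ℤ, i ≤ -2 → IsZero (K.X i))
    (u : DRing.toD M ⟶ DRing.toD K) : ∃ a : M ⟶ K, DerivedCategory.Q.map a = u := by
  have := (vanishesAbove_iff M 0).1 hM
  have : (DRing.toD M).IsLE 0 := inferInstanceAs ((DerivedCategory.Q.obj M).IsLE 0)
  obtain ⟨P, hP, hPf, ⟨e⟩⟩ := exists_free_resolution (DRing.toD M) 0
  have hP0 := (vanishesAbove_iff P 0).2 hP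
  have := isKProjective (P := P) 0 (fun i => have := hPf i; inferInstance)
  obtain ⟨ψ, hψ⟩ := exists_map_eq e.hom
  have : IsIso (DerivedCategory.Q.map ψ) := hψ ▸ inferInstance
  obtain ⟨g, hg⟩ := exists_map_eq (DerivedCategory.Q.map ψ ≫ u)
  have hK2 := ModuleCat.subsingleton_of_isZero (hK (-2) le_rfl)
  have hP1 := ModuleCat.subsingleton_of_isZero (hP0 1 (by omega))
  have hM1 := ModuleCat.subsingleton_of_isZero (hM 1 (by omega))
  let π : P.X 0 × M.X (-1) →ₗ[A] M.X 0 := (ψ.f 0).hom.coprod (M.d (-1) 0).hom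
  have hπ : Function.Surjective π := fun m =>
    have ⟨p, y, h⟩ := resolution_surjective hM ψ m
    ⟨(p, y), h⟩
  obtain ⟨s, hs⟩ := Module.projective_lifting_property π LinearMap.id hπ
  have hπs : ∀ m, π (s m) = m := LinearMap.congr_fun hs
  let ρ : P.X (-1) × M.X (-2) →ₗ[A] ↥(LinearMap.ker π) :=
    (((P.d (-1) 0).hom ∘ₗ LinearMap.fst A _ _).prod
      (-((ψ.f (-1)).hom ∘ₗ LinearMap.fst A _ _) + (M.d (-2) (-1)).hom ∘ₗ LinearMap.snd A _ _)).codRestrict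
      _ (fun x => by
        change ψ.f 0 (P.d (-1) 0 x.1) + M.d (-1) 0 (-(ψ.f (-1) x.1) + M.d (-2) (-1) x.2) = 0
        rw [map_add, map_neg, comm_apply, d_d_apply, add_zero, add_neg_cancel])
  have hρ : Function.Surjective ρ := by
    rintro ⟨⟨p, y⟩, hpy⟩
    obtain ⟨q, w, h1, h2⟩ := resolution_kernel hP0 ψ p y hpy
    exact ⟨(q, w), Subtype.ext (Prod.ext h1 h2)⟩
  obtain ⟨γ, hγ⟩ := exists_factor ρ hρ ((g.f (-1)).hom ∘ₗ LinearMap.fst A _ _) (by
    rintro ⟨q, w⟩ hqw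
    have h1 : P.d (-1) 0 q = 0 := congrArg (fun x : ↥(LinearMap.ker π) => x.1.1) hqw
    have h2 : -(ψ.f (-1) q) + M.d (-2) (-1) w = 0 := congrArg (fun x : ↥(LinearMap.ker π) => x.1.2) hqw
    obtain ⟨v, hv⟩ := exists_boundary_of_homologyMap_injective ψ (i := -2) (k := 0) (by simp) (by simp)
      ((HH_bijective_iff ψ (-1)).1 ((ConcreteCategory.isIso_iff_bijective _).1 inferInstance)).1
      q h1 w (neg_add_eq_zero.1 h2).symm
    change g.f (-1) q = 0
    rw [← hv, ← comm_apply g (-2) (-1) v, Subsingleton.elim (g.f (-2) v) 0, map_zero])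
  -- `Θ (p, y) = k p + a₋₁ y`
  let Θ : P.X 0 × M.X (-1) →ₗ[A] K.X (-1) :=
    -(γ ∘ₗ (LinearMap.id - s ∘ₗ π).codRestrict _ (fun x => by
      change π (x - s (π x)) = 0
      rw [map_sub, hπs, sub_self]))
  let a₀ : M.X 0 →ₗ[A] K.X 0 := ((g.f 0).hom ∘ₗ LinearMap.fst A _ _ + (K.d (-1) 0).hom ∘ₗ Θ) ∘ₗ s
  have hΘ : ∀ q w, Θ (P.d (-1) 0 q, -(ψ.f (-1) q) + M.d (-2) (-1) w) = -(g.f (-1) q) := by
    intro q w
    change -(γ _) = _
    have := hγ (q, w)
    refine congrArg Neg.neg (Eq.trans (congrArg γ (Subtype.ext ?_)) this)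
    change _ - s (π _) = (P.d (-1) 0 q, -(ψ.f (-1) q) + M.d (-2) (-1) w)
    rw [LinearMap.mem_ker.1 (ρ (q, w)).2 |> (fun h => (show π (P.d (-1) 0 q, -(ψ.f (-1) q) + M.d (-2) (-1) w) = 0 from h)),
      map_zero, sub_zero]
    rfl
  have ha₀ : ∀ x, a₀ (π x) = g.f 0 x.1 + K.d (-1) 0 (Θ x) := by
    intro x
    have hz : x - s (π x) ∈ LinearMap.ker π := by
      rw [LinearMap.mem_ker, map_sub, hπs, sub_self]
    obtain ⟨q, w, h1, h2⟩ := resolution_kernel hP0 ψ (x - s (π x)).1 (x - s (π x)).2 hz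
    have hx : x = s (π x) + (P.d (-1) 0 q, -(ψ.f (-1) q) + M.d (-2) (-1) w) := by
      rw [show (P.d (-1) 0 q, -(ψ.f (-1) q) + M.d (-2) (-1) w) = x - s (π x) from Prod.ext h1 h2,
        add_sub_cancel]
    conv_rhs => rw [hx, map_add, Prod.fst_add, map_add, map_add, hΘ, map_neg, comm_apply]
    change g.f 0 (s (π x)).1 + K.d (-1) 0 (Θ (s (π x))) = _
    abel
  have hπy : ∀ y, π (0, y) = M.d (-1) 0 y := fun y => by
    change ψ.f 0 0 + _ = _
    rw [map_zero, zero_add]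
    rfl
  obtain ⟨a, hA0, hA1⟩ := exists_hom_two hM hK (ModuleCat.ofHom a₀)
    (ModuleCat.ofHom (Θ ∘ₗ LinearMap.inr A _ _))
    (by
      ext w
      change Θ (0, M.d (-2) (-1) w) = 0
      have := hΘ 0 w
      rwa [map_zero, map_zero, neg_zero, zero_add, map_zero, neg_zero] at this)
    (by
      ext y
      change K.d (-1) 0 (Θ (0, y)) = a₀ (M.d (-1) 0 y)
      rw [← hπy, ha₀, map_zero, zero_add])
    (by
      ext m
      obtain ⟨x, rfl⟩ := hπ m
      change K.d 0 1 (a₀ (π x)) = 0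
      rw [ha₀, map_add, d_d_apply, add_zero, comm_apply, Subsingleton.elim (P.d 0 1 x.1) 0, map_zero])
  refine ⟨a, (cancel_epi (DerivedCategory.Q.map ψ)).1 ?_⟩
  rw [← hg, ← Functor.map_comp, ← sub_eq_zero, ← Functor.map_sub, map_eq_zero_iff]
  refine homotopy_of_two hP0 hK _ (ModuleCat.ofHom (Θ ∘ₗ LinearMap.inl A _ _)) ?_ ?_
  · ext p
    change K.d (-1) 0 (Θ (p, 0)) = a.f 0 (ψ.f 0 p) - g.f 0 p
    rw [hA0]
    have hp : ψ.f 0 p = π (p, 0) := by
      change _ = _ + M.d (-1) 0 0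
      rw [map_zero, add_zero]
      rfl
    change _ = a₀ (ψ.f 0 p) - g.f 0 p
    rw [hp, ha₀, add_sub_cancel_left]
  · ext q
    change Θ (P.d (-1) 0 q, 0) = a.f (-1) (ψ.f (-1) q) - g.f (-1) q
    rw [hA1]
    change _ = Θ (0, ψ.f (-1) q) - g.f (-1) q
    have h := hΘ q 0
    rw [map_zero, add_zero] at h
    rw [show (P.d (-1) 0 q, -(ψ.f (-1) q)) = (P.d (-1) 0 q, 0) - (0, ψ.f (-1) q) by simp,
      map_sub, sub_eq_iff_eq_add] at h
    rw [h]
    abel

theorem Q_map_eq_zero_of_homotopy {f : M ⟶ K} (H : Homotopy f 0) : DerivedCategory.Q.map f = 0 := by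
  rw [← NatIso.naturality_1 (DerivedCategory.quotientCompQhIso (ModuleCat.{u} A)) f,
    Functor.comp_map, HomotopyCategory.eq_of_homotopy _ _ H, Functor.map_zero, Functor.map_zero,
    zero_comp, comp_zero]

theorem Q_map_eq_iff (hM : ∀ i : ℤ, 0 < i → IsZero (M.X i))
    (hK : ∀ i : ℤ, i ≤ -2 → IsZero (K.X i)) (a b : M ⟶ K) :
    DerivedCategory.Q.map a = DerivedCategory.Q.map b ↔ Nonempty (Homotopy (a - b) 0) := by
  rw [← sub_eq_zero, ← Functor.map_sub]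
  exact ⟨homotopy_of_Q_map_eq_zero hM hK _, fun ⟨H⟩ => Q_map_eq_zero_of_homotopy H⟩

/-- `N[1]` as a complex in degree `-1`. -/
noncomputable def singleNegOneIso (N : Type u) [AddCommGroup N] [Module A N] :
    (Dual.inD A N)⟦(1 : ℤ)⟧ ≅ DRing.toD ((HomologicalComplex.single (ModuleCat.{u} A)
      (ComplexShape.up ℤ) (-1)).obj (ModuleCat.of A N)) :=
  ((DerivedCategory.singleFunctors (ModuleCat.{u} A)).shiftIso 1 (-1) 0 (by omega)).app _ ≪≫
    (DerivedCategory.singleFunctorIsoCompQ (ModuleCat.{u} A) (-1)).app _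

theorem isZero_singleNegOne {i : ℤ} (hi : i ≠ -1) (N : ModuleCat.{u} A) :
    IsZero (((HomologicalComplex.single (ModuleCat.{u} A) (ComplexShape.up ℤ) (-1)).obj N).X i) :=
  HomologicalComplex.isZero_single_obj_X (ComplexShape.up ℤ) (-1) N i hi

/-- `K^{-1}` receives the universal class. -/
noncomputable def toSingleNegOne (hK : ∀ i : ℤ, i ≤ -2 → IsZero (K.X i)) :
    K ⟶ (HomologicalComplex.single (ModuleCat.{u} A) (ComplexShape.up ℤ) (-1)).obj (K.X (-1)) :=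
  HomologicalComplex.mkHomToSingle (𝟙 _) (fun j hj => by
    have : j + 1 = -1 := hj
    exact (hK j (by omega)).eq_of_src _ _)

/-- Criterion for killing all maps to `N[1]`. -/
theorem comp_eq_zero_iff_homotopy (hM : ∀ i : ℤ, 0 < i → IsZero (M.X i))
    (hK : ∀ i : ℤ, i ≠ -1 → i ≠ 0 → IsZero (K.X i))
    (hK0 : Module.Projective A (K.X 0)) (a : M ⟶ K) :
    (∀ (N : Type u) [AddCommGroup N] [Module A N] (ξ : DRing.toD K ⟶ (Dual.inD A N)⟦(1 : ℤ)⟧),
        DerivedCategory.Q.map a ≫ ξ = 0) ↔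
      ∃ h : M.X 0 ⟶ K.X (-1), M.d (-1) 0 ≫ h = a.f (-1) := by
  have hK2 : ∀ i : ℤ, i ≤ -2 → IsZero (K.X i) := fun i hi => hK i (by omega) (by omega)
  constructor
  · intro H
    let φ := toSingleNegOne hK2
    have h0 := H (K.X (-1)) (DerivedCategory.Q.map φ ≫ (singleNegOneIso (K.X (-1))).inv)
    rw [← Category.assoc, ← Functor.map_comp] at h0
    have h1 : DerivedCategory.Q.map (a ≫ φ) = 0 :=
      (cancel_mono (singleNegOneIso (K.X (-1))).inv).1 (h0.trans zero_comp.symm)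
    have hS : ∀ i : ℤ, i ≤ -2 → IsZero (((HomologicalComplex.single (ModuleCat.{u} A)
        (ComplexShape.up ℤ) (-1)).obj (K.X (-1))).X i) :=
      fun i hi => isZero_singleNegOne (by omega) _
    obtain ⟨H'⟩ := homotopy_of_Q_map_eq_zero hM hS (a ≫ φ) h1
    obtain ⟨h, -, hh⟩ := exists_of_homotopy hM hS H'
    refine ⟨h ≫ (HomologicalComplex.singleObjXSelf (ComplexShape.up ℤ) (-1) (K.X (-1))).hom, ?_⟩
    rw [← Category.assoc, hh]
    simp [φ, toSingleNegOne, HomologicalComplex.mkHomToSingle_f]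
  · rintro ⟨h, hh⟩ N _ _ ξ
    let e := singleNegOneIso (A := A) N
    have hS : ∀ i : ℤ, i ≤ -2 → IsZero (((HomologicalComplex.single (ModuleCat.{u} A)
        (ComplexShape.up ℤ) (-1)).obj (ModuleCat.of A N)).X i) :=
      fun i hi => isZero_singleNegOne (by omega) _
    obtain ⟨φ, hφ⟩ := exists_Q_map_eq (fun i hi => hK i (by omega) (by omega)) hK0 hS (ξ ≫ e.hom)
    apply (cancel_mono e.hom).1
    rw [Category.assoc, ← hφ, zero_comp, ← Functor.map_comp]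
    obtain ⟨H⟩ := homotopy_of_two hM hS (a ≫ φ) (h ≫ φ.f (-1))
      ((isZero_singleNegOne (by omega) _).eq_of_tgt _ _)
      (by rw [HomologicalComplex.comp_f, ← Category.assoc, hh])
    exact Q_map_eq_zero_of_homotopy H

end Groth.Agent.DMod
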