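import Groth.Agent.Lib.DMod.Amplitude
import Groth.Agent.Lib.DMod.TwoTerm

/-!
Splitting off a truncation which has projective amplitude.
-/

set_option autoImplicit false

universe u

open CategoryTheory CategoryTheory.Limits CategoryTheory.Pretriangulated CategoryTheory.Triangulated

attribute [local instance] HasDerivedCategory.standard

namespace Groth.Agent.DMod

variable {A : Type u} [CommRing A]

theorem bijective_HH_comp_iff {K L M : Dual.D A} (f : K ⟶ L) (g : L ⟶ M) (i : ℤ)
    [IsIso ((HH i).map f)] : IsIso ((HH i).map (f ≫ g)) ↔ IsIso ((HH i).map g) := by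
  rw [Functor.map_comp]
  exact isIso_comp_left_iff ((HH i).map f) ((HH i).map g)

theorem isIso_of_isLE_isGE {K L : Dual.D A} (f : K ⟶ L) (n : ℤ) [K.IsGE n] [L.IsGE n]
    (h : ∀ i, n ≤ i → IsIso ((HH i).map f)) : IsIso f := by
  rw [DerivedCategory.isIso_iff]
  intro i
  by_cases hi : n ≤ i
  · exact h i hi
  · exact (DerivedCategory.isZero_of_isGE K n i (by omega)).isIso
      (DerivedCategory.isZero_of_isGE L n i (by omega)) _

/-- The truncation of a represented object. -/
theorem exists_truncGE_iso {K : Dual.D A} (P : DRing.Cx A) (e : DRing.toD P ≅ K) (n : ℤ) :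
    Nonempty (DRing.toD (truncFrom P n) ≅ ((tS A).truncGE n).obj K) := by
  let u : K ⟶ DRing.toD (truncFrom P n) := e.inv ≫ DerivedCategory.Q.map (truncFromπ P n)
  have hge : (DRing.toD (truncFrom P n)).IsGE n :=
    (isGE_iff _ n).2 fun i hi => (subsingleton_HD_toD_iff _ i).2 (subsingleton_truncFrom_homology P hi)
  have : DerivedCategory.IsGE (((tS A).truncGE n).obj K) n := inferInstanceAs ((tS A).IsGE _ n)
  let v := (tS A).descTruncGE u n
  have hv : ((tS A).truncGEπ n).app K ≫ v = u := (tS A).π_descTruncGE u n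
  have : IsIso v := by
    refine isIso_of_isLE_isGE v n fun i hi => ?_
    have := DerTrunc.isIso_homology_truncGEπ K n i hi
    rw [← bijective_HH_comp_iff (((tS A).truncGEπ n).app K) v i, hv, bijective_HH_comp_iff e.inv _ i,
      ConcreteCategory.isIso_iff_bijective, HH_bijective_iff]
    exact truncFromπ_bijective P hi
  exact ⟨(asIso v).symm⟩

/-- The cokernel of a differential with a retraction onto its image is projective. -/
theorem projective_coker {P : DRing.Cx A} (a : ℤ) [Module.Projective A (P.X (a + 1))]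
    (g : P.X (a + 1) →ₗ[A] ↥(LinearMap.range (P.d a (a + 1)).hom))
    (hg : g ∘ₗ (P.d a (a + 1)).hom = (P.d a (a + 1)).hom.rangeRestrict) :
    Module.Projective A ((truncFrom P (a + 1)).X (a + 1)) := by
  let B := LinearMap.range (P.d a (a + 1)).hom
  suffices Module.Projective A (P.X (a + 1) ⧸ B) from
    have hB : ∀ j, j = a → LinearMap.range (P.d j (a + 1)).hom = B := by
      intro j hj
      subst hj
      rfl
    Module.Projective.of_equiv ((Submodule.quotEquivOfEq _ _ (hB _ (add_sub_cancel_right a 1)).symm).trans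
      (truncFromBotEquiv P (a + 1)))
  have hgB : ∀ x : ↥B, g x = x := by
    rintro ⟨_, y, rfl⟩
    exact LinearMap.congr_fun hg y
  refine Module.Projective.of_split
    (B.liftQ (LinearMap.id - B.subtype ∘ₗ g) fun x hx => ?_) B.mkQ (LinearMap.ext fun q => ?_)
  · change x - (g x : P.X (a + 1)) = 0
    rw [hgB ⟨x, hx⟩, sub_self]
  · obtain ⟨x, rfl⟩ := B.mkQ_surjective q
    change B.mkQ (x - (g x : P.X (a + 1))) = B.mkQ x
    rw [map_sub, sub_eq_self]
    exact (Submodule.Quotient.mk_eq_zero B).2 (g x).2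

/-- `K ≤ b`, with a retraction: the truncation has projective amplitude and splits off. -/
theorem truncGE_projAmp {K : Dual.D A} {P : DRing.Cx A} (e : DRing.toD P ≅ K) (a b : ℤ)
    [P.IsStrictlyLE b] (hproj : ∀ i, Module.Projective A (P.X i))
    (g : P.X (a + 1) →ₗ[A] ↥(LinearMap.range (P.d a (a + 1)).hom))
    (hg : g ∘ₗ (P.d a (a + 1)).hom = (P.d a (a + 1)).hom.rangeRestrict) :
    ∃ (Q : DRing.Cx A), DRing.VanishesOutside Q (a + 1) b ∧ (∀ i, Module.Projective A (Q.X i)) ∧
      Nonempty (DRing.toD Q ≅ ((tS A).truncGE (a + 1)).obj K) :=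
  have := hproj (a + 1)
  ⟨_, vanishesOutside_truncFrom P (a + 1) b,
    truncFrom_mem modClass_projective P (a + 1) (fun i _ => hproj i) (projective_coker a g hg),
    exists_truncGE_iso P e (a + 1)⟩

theorem retraction_of_hom_zero {K : Dual.D A} {P : DRing.Cx A} [P.IsKProjective]
    (e : DRing.toD P ≅ K) (a : ℤ)
    (h : ∀ M : ModuleCat.{u} A, Subsingleton (K ⟶ (single a).obj M)) :
    ∃ g : P.X (a + 1) →ₗ[A] ↥(LinearMap.range (P.d a (a + 1)).hom),
      g ∘ₗ (P.d a (a + 1)).hom = (P.d a (a + 1)).hom.rangeRestrict :=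
  factor_of_hom_zero (fun M => ⟨fun f f' => (cancel_epi e.inv).1 ((h M).elim _ _)⟩) _
    (LinearMap.ext fun x => Subtype.ext
      (congrArg (fun f : P.X (a - 1) ⟶ P.X (a + 1) => f x) (P.d_comp_d (a - 1) a (a + 1))))

theorem retraction_of_injective {K : Dual.D A} {P : DRing.Cx A} [P.IsKProjective]
    (e : DRing.toD P ≅ K) (a : ℤ)
    (h : ∀ (M M' : ModuleCat.{u} A) (j : M ⟶ M'), Function.Injective j →
      ∀ x : K ⟶ (single a).obj M, x ≫ (single a).map j = 0 → x = 0) :
    ∃ g : P.X (a + 1) →ₗ[A] ↥(LinearMap.range (P.d a (a + 1)).hom),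
      g ∘ₗ (P.d a (a + 1)).hom = (P.d a (a + 1)).hom.rangeRestrict := by
  let S := HomologicalComplex.single (ModuleCat.{u} A) (ComplexShape.up ℤ) a
  let B := LinearMap.range (P.d a (a + 1)).hom
  let M := ModuleCat.of A ↥B
  let j : M ⟶ P.X (a + 1) := ModuleCat.ofHom B.subtype
  let r : P.X a ⟶ M := ModuleCat.ofHom (P.d a (a + 1)).hom.rangeRestrict
  have hr : P.d (a - 1) a ≫ r = 0 := by
    ext x : 2
    exact Subtype.ext (congrArg (fun f : P.X (a - 1) ⟶ P.X (a + 1) => f x) (P.d_comp_d (a - 1) a (a + 1)))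
  let φ : P ⟶ S.obj M := HomologicalComplex.mkHomToSingle r (fun k hk => by
    obtain rfl : k = a - 1 := by
      have : k + 1 = a := hk
      omega
    exact hr)
  let hom : ∀ i k : ℤ, (ComplexShape.up ℤ).Rel k i → (P.X i ⟶ (S.obj (P.X (a + 1))).X k) := fun i k _ =>
    if hik : i = a + 1 ∧ k = a then eqToHom (by rw [hik.1]) ≫
      (HomologicalComplex.singleObjXSelf (ComplexShape.up ℤ) a (P.X (a + 1))).inv ≫
        eqToHom (by rw [hik.2]) else 0
  have hh : hom (a + 1) a rfl =
      (HomologicalComplex.singleObjXSelf (ComplexShape.up ℤ) a (P.X (a + 1))).inv := by simp [hom]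
  have hnull : φ ≫ S.map j = Homotopy.nullHomotopicMap' hom := by
    apply HomologicalComplex.to_single_hom_ext
    rw [HomologicalComplex.comp_f, HomologicalComplex.mkHomToSingle_f, HomologicalComplex.single_map_f_self,
      Homotopy.nullHomotopicMap'_f (show (ComplexShape.up ℤ).Rel (a - 1) a from sub_add_cancel a 1)
        (show (ComplexShape.up ℤ).Rel a (a + 1) from rfl), hh, HomologicalComplex.single_obj_d,
      comp_zero, add_zero]
    simp only [Category.assoc, Iso.inv_hom_id_assoc]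
    rw [← Category.assoc]
    rfl
  have h0 : DerivedCategory.Q.map (φ ≫ S.map j) = 0 :=
    Q_map_eq_zero_of_homotopy ((Homotopy.ofEq hnull).trans (Homotopy.nullHomotopy' hom))
  let x : K ⟶ (single a).obj M := e.inv ≫ DerivedCategory.Q.map φ
  have hx : x = 0 := h M (P.X (a + 1)) j (Submodule.injective_subtype B) x (by
    change (e.inv ≫ DerivedCategory.Q.map φ) ≫ DerivedCategory.Q.map (S.map j) = 0
    rw [Category.assoc, ← Functor.map_comp, h0, comp_zero])
  have hφ : DerivedCategory.Q.map φ = 0 := (cancel_epi e.inv).1 (hx.trans comp_zero.symm)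
  obtain ⟨H⟩ := (map_eq_zero_iff φ).1 hφ
  have hc := H.comm a
  rw [HomologicalComplex.mkHomToSingle_f,
    dNext_eq H.hom (show (ComplexShape.up ℤ).Rel a (a + 1) from rfl),
    prevD_eq H.hom (show (ComplexShape.up ℤ).Rel (a - 1) a from sub_add_cancel a 1),
    HomologicalComplex.single_obj_d, comp_zero, add_zero, HomologicalComplex.zero_f, add_zero] at hc
  refine ⟨(H.hom (a + 1) a ≫ (HomologicalComplex.singleObjXSelf (ComplexShape.up ℤ) a M).hom).hom, ?_⟩
  have hc' := congrArg (fun k => k ≫ (HomologicalComplex.singleObjXSelf (ComplexShape.up ℤ) a M).hom) hc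
  simp only [Category.assoc, Iso.inv_hom_id, Category.comp_id] at hc'
  exact (congrArg ModuleCat.Hom.hom hc').symm

theorem exists_split {T : Triangle (Dual.D A)} (hT : T ∈ distTriang _) (a b : ℤ)
    (hle : T.obj₁.IsLE a)
    (hQ : ∃ Q : DRing.Cx A, DRing.VanishesOutside Q (a + 1) b ∧ (∀ i, Module.Projective A (Q.X i)) ∧
      Nonempty (DRing.toD Q ≅ T.obj₃)) :
    ∃ e : T.obj₂ ≅ T.obj₁ ⊞ T.obj₃, T.mor₁ ≫ e.hom = biprod.inl ∧
      e.hom ≫ biprod.snd = T.mor₂ := by
  obtain ⟨Q, hQ, hproj, ⟨e⟩⟩ := hQ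
  have := ((vanishesOutside_iff Q (a + 1) b).1 hQ).1
  have := ((vanishesOutside_iff Q (a + 1) b).1 hQ).2
  have := isKProjective b hproj
  have hle' : ((shiftFunctor (Dual.D A) (1 : ℤ)).obj T.obj₁).IsLE (a - 1) :=
    (tS A).isLE_shift T.obj₁ a 1 (a - 1)
  have h0 : T.mor₃ = 0 := by
    rw [← cancel_epi e.hom, comp_zero]
    exact hom_eq_zero (a + 1) (a - 1) (by omega) _
  obtain ⟨e', he₁, he₂⟩ := exists_iso_binaryBiproduct_of_distTriang T hT h0
  exact ⟨e', he₁, he₂.symm⟩

theorem isIso_natTrans_truncLT {K : Dual.D A} (a : ℤ) (h : Subsingleton (Dual.HD A K a)) :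
    IsIso (((tS A).natTransTruncLTOfLE a (a + 1) (by omega)).app K) := by
  let n := ((tS A).natTransTruncLTOfLE a (a + 1) (by omega)).app K
  have hn : n ≫ ((tS A).truncLTι (a + 1)).app K = ((tS A).truncLTι a).app K :=
    (tS A).natTransTruncLTOfLE_ι_app _ _ _ _
  have h1 : DerivedCategory.IsLE (((tS A).truncLT a).obj K) (a - 1) :=
    (tS A).isLE_truncLT_obj K a (a - 1) (by omega)
  have h2 : DerivedCategory.IsLE (((tS A).truncLT (a + 1)).obj K) a :=
    (tS A).isLE_truncLT_obj K (a + 1) a (by omega)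
  rw [DerivedCategory.isIso_iff]
  intro i
  by_cases hi : i < a
  · have e1 := DerTrunc.isIso_homology_truncLTι K a i hi
    have e2 := DerTrunc.isIso_homology_truncLTι K (a + 1) i (by omega)
    rw [← hn, Functor.map_comp] at e1
    exact IsIso.of_isIso_comp_right _ ((HH i).map (((tS A).truncLTι (a + 1)).app K))
  · refine (DerivedCategory.isZero_of_isLE _ (a - 1) i (by omega)).isIso ?_ _
    rcases eq_or_lt_of_le (show a ≤ i by omega) with rfl | hi'
    · have e2 := DerTrunc.isIso_homology_truncLTι K (a + 1) a (by omega)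
      exact ((isZero_iff_subsingleton _).2 h).of_iso (asIso ((HH a).map (((tS A).truncLTι (a + 1)).app K)))
    · exact DerivedCategory.isZero_of_isLE _ a i hi'

end Groth.Agent.DMod
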