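import Groth.Agent.Lib.DMod.Basic
import Groth.Agent.Lib.DerTrunc.Basic

/-!
Morphisms between objects with cohomology in two adjacent degrees.
-/

set_option autoImplicit false

universe u

open CategoryTheory CategoryTheory.Limits CategoryTheory.Pretriangulated CategoryTheory.Triangulated

attribute [local instance] HasDerivedCategory.standard

namespace Groth.Agent.DMod

variable {A : Type u} [CommRing A]

/-- A morphism out of `K'` killed by a map `K ⟶ K'` bijective on `H^0` and surjective on `H^{-1}`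
vanishes, if the target is `≥ -1`. -/
theorem eq_zero_of_comp_eq_zero {K K' X : Dual.D A} (α : K ⟶ K') [K.IsLE 0] [K'.IsLE 0]
    [X.IsGE (-1)] (h0 : IsIso ((HH 0).map α)) (h1 : Epi ((HH (-1)).map α)) (g : K' ⟶ X)
    (hg : α ≫ g = 0) : g = 0 := by
  obtain ⟨C, p, d, hT⟩ := distinguished_cocone_triangle α
  obtain ⟨g', rfl⟩ : ∃ g' : C ⟶ X, g = p ≫ g' := Triangle.yoneda_exact₂ _ hT g hg
  have hC : C.IsLE (-1 - 1) := (cone_isLE_iff _ hT (-1)).2 ⟨fun i hi => by
    rcases eq_or_lt_of_le (show 0 ≤ i by omega) with rfl | hi'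
    · exact h0
    · exact (DerivedCategory.isZero_of_isLE K 0 i hi').isIso
        (DerivedCategory.isZero_of_isLE K' 0 i hi') _, h1⟩
  have hg' : g' = 0 := (tS A).zero g' (-1 - 1) (-1)
  rw [hg', comp_zero]

theorem isGE_shift_single (M : Type u) [AddCommGroup M] [Module A M] :
    ((Dual.inD A M)⟦(1 : ℤ)⟧).IsGE (-1) :=
  have : ((DerivedCategory.singleFunctor (ModuleCat.{u} A) 0).obj (ModuleCat.of A M)).IsGE 0 :=
    inferInstance
  (tS A).isGE_shift _ 0 1 (-1)

/-- A composite is zero if the first map kills `H^0` and the second kills `H^{-1}`. -/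
theorem comp_eq_zero_of_homology {K₁ K₂ K₃ : Dual.D A} [K₁.IsLE 0] [K₃.IsGE (-1)]
    (φ : K₁ ⟶ K₂) (ψ : K₂ ⟶ K₃) (hφ : (HH 0).map φ = 0) (hψ : (HH (-1)).map ψ = 0) :
    φ ≫ ψ = 0 := by
  have : DerivedCategory.IsGE (((tS A).truncGE 0).obj K₂) 0 :=
    inferInstanceAs ((tS A).IsGE _ 0)
  have : DerivedCategory.IsLE (((tS A).truncLT 0).obj K₂) (-1) :=
    (tS A).isLE_truncLT_obj K₂ 0 (-1) (by omega)
  have h1 : φ ≫ ((tS A).truncGEπ 0).app K₂ = 0 := by
    refine DerTrunc.hom_eq_zero_of_isLE_of_isGE 0 _ ?_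
    rw [Functor.map_comp, hφ, zero_comp]
  obtain ⟨φ', rfl⟩ : ∃ φ', φ = φ' ≫ ((tS A).truncLTι 0).app K₂ :=
    Triangle.coyoneda_exact₂ _ ((tS A).triangleLTGE_distinguished 0 K₂) φ h1
  have h2 : ((tS A).truncLTι 0).app K₂ ≫ ψ = 0 := by
    refine DerTrunc.hom_eq_zero_of_isLE_of_isGE (-1) _ ?_
    rw [Functor.map_comp, hψ, comp_zero]
  rw [Category.assoc, h2, comp_zero]

end Groth.Agent.DMod
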